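import Cfsg.Agent.H302.St.Core

/-!
# S3568, STEP A: the involution `v` is not conjugate to `z`
-/

set_option autoImplicit false
set_option linter.unusedSectionVars false

open Pointwise

namespace Cfsg.Agent.H302.St

open Cfsg.Agent.H399 Cfsg.Agent.H209.Five

variable {G : Type*} [Group G] {Q₁ Q₂ : Subgroup G} {τ v z : G}

/-- an element of a 2-group with `x ^ 3 = 1` is trivial -/
theorem eq_one_of_three {P : Subgroup G} (hP : IsPGroup 2 P) {x : G} (hx : x ∈ P) (h3 : x ^ 3 = 1) : x = 1 := by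
  obtain ⟨n, hn⟩ := hP ⟨x, hx⟩
  have hn' : x ^ 2 ^ n = 1 := congrArg Subtype.val hn
  have h1 : orderOf x ∣ 2 ^ n := orderOf_dvd_of_pow_eq_one hn'
  have h2 : orderOf x ∣ 3 := orderOf_dvd_of_pow_eq_one h3
  have h4 : orderOf x ∣ 1 := by
    have hc : Nat.Coprime (2 ^ n) 3 := Nat.Coprime.pow_left n (by norm_num)
    rw [← hc]
    exact Nat.dvd_gcd h1 h2
  exact orderOf_eq_one_iff.1 (Nat.dvd_one.1 h4)

theorem zpow_tau {P : Subgroup G} (hP : IsPGroup 2 P) (h3 : τ ^ 3 = 1) (hinv : v * τ * v = τ⁻¹) (hvv : v * v = 1)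
    {i : ℤ} (hi : τ ^ i * v * (τ ^ i)⁻¹ * v ∈ P) : τ ^ i = 1 := by
  have h3' : τ ^ (3 : ℤ) = 1 := by
    have : (3 : ℤ) = ((3 : ℕ) : ℤ) := rfl
    rw [this, zpow_natCast, h3]
  have hvi : v⁻¹ = v := inv_eq_of_mul_eq_one_left hvv
  have h1 : ∀ j : ℤ, v * τ ^ j * v = τ ^ (-j) := by
    intro j
    have e : v * τ ^ j * v⁻¹ = (v * τ * v⁻¹) ^ j := conj_zpow.symm
    rw [hvi] at e
    rw [e, hinv, inv_zpow', ]
  have h2 : τ ^ i * v * (τ ^ i)⁻¹ * v = τ ^ (i + i) := by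
    have e : τ ^ i * v * (τ ^ i)⁻¹ * v = τ ^ i * (v * (τ ^ i)⁻¹ * v) := by group
    rw [e, ← zpow_neg, h1, neg_neg, zpow_add]
  rw [h2] at hi
  have h4 : (τ ^ (i + i)) ^ 3 = 1 := by
    rw [← zpow_natCast, ← zpow_mul]
    have : (i + i) * ((3 : ℕ) : ℤ) = 3 * (i + i) := by push_cast; ring
    rw [this, zpow_mul, h3', one_zpow]
  have h5 := eq_one_of_three hP hi h4
  have h6 : τ ^ i = (τ ^ (3 : ℤ)) ^ i * (τ ^ (i + i))⁻¹ := by
    rw [← zpow_mul, ← zpow_neg, ← zpow_add]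
    congr 1
    ring
  rw [h6, h3', h5, one_zpow, inv_one, one_mul]

theorem conj_zpow_mem {K : Subgroup G} {c : G} (hc : c ∈ Nm K) {x : G} (hx : x ∈ K) : c * x * c⁻¹ ∈ K := by
  have := conj_mem_cj (x := c) (X := K).2 hx
  rwa [cj_of_mem_Nm hc] at this

namespace Two

variable (h : TypeTwo Q₁ Q₂ τ v z)

include h

theorem v_ne_z : v ≠ z := fun h1 => v_notMem h (h1 ▸ X_le_T h (zX h))

/-- normaliser of an overgroup of `T⟨v⟩` -/
theorem perm_of {P P₁ : Subgroup G} [Finite G]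
    (hJ : ∀ V : Subgroup G, V ≤ P → Nat.card V = 16 → (∀ x ∈ V, x * x = 1) → V = Q₁ ∨ V = Q₂)
    (hT : Q₁ ⊔ Q₂ ≤ P₁) (hP : P₁ ≤ P) {m : G} (hm : m ∈ Nm P₁) :
    (cj m Q₁ = Q₁ ∧ cj m Q₂ = Q₂) ∨ (cj m Q₁ = Q₂ ∧ cj m Q₂ = Q₁) := by
  have h16 : ∀ Q : Subgroup G, Q ≤ Q₁ ⊔ Q₂ → EA Q 16 → cj m Q = Q₁ ∨ cj m Q = Q₂ := by
    intro Q hQ hE
    refine hJ _ ?_ (by rw [card_cj, hE.card]) ?_
    · have h1 : cj m Q ≤ cj m P₁ := cj_le_cj.2 (hQ.trans hT)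
      rw [cj_of_mem_Nm hm] at h1
      exact h1.trans hP
    · intro x hx
      have h5 := hE.sq _ (mem_cj.1 hx)
      have h6 : m⁻¹ * x * m * (m⁻¹ * x * m) = m⁻¹ * (x * x) * m⁻¹⁻¹ := by group
      rw [h6] at h5
      exact conj_eq_one_iff.1 h5
  have hQne : Q₁ ≠ Q₂ := by
    intro h1
    have := h.six.pair.inf
    rw [← h1, inf_idem, h.six.pair.ea₁.card] at this
    omega
  rcases h16 Q₁ le_sup_left h.six.pair.ea₁ with h1 | h1 <;> rcases h16 Q₂ le_sup_right h.six.pair.ea₂ with h2 | h2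
  · exact absurd (cj_inj.1 (h1.trans h2.symm)) hQne
  · exact Or.inl ⟨h1, h2⟩
  · exact Or.inr ⟨h1, h2⟩
  · exact absurd (cj_inj.1 (h1.trans h2.symm)) hQne

/-- `m` or `m v` normalises both `Q₁` and `Q₂` -/
theorem fix_of {P P₁ : Subgroup G} [Finite G]
    (hJ : ∀ V : Subgroup G, V ≤ P → Nat.card V = 16 → (∀ x ∈ V, x * x = 1) → V = Q₁ ∨ V = Q₂)
    (hT : Q₁ ⊔ Q₂ ≤ P₁) (hP : P₁ ≤ P) {m : G} (hm : m ∈ Nm P₁) :
    m ∈ Nm Q₁ ⊓ Nm Q₂ ∨ m * v ∈ Nm Q₁ ⊓ Nm Q₂ := by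
  rcases perm_of h hJ hT hP hm with ⟨h1, h2⟩ | ⟨h1, h2⟩
  · exact Or.inl ⟨mem_Nm.2 h1, mem_Nm.2 h2⟩
  · refine Or.inr ⟨mem_Nm.2 ?_, mem_Nm.2 ?_⟩
    · rw [cj_mul, h.swap, h2]
    · rw [cj_mul, h.swap', h1]

theorem X_eq [Finite G] {x : G} (hx : x ∈ Q₁ ⊓ Q₂) (hx1 : x ≠ 1) (hxz : x ≠ z) :
    ∀ y ∈ Q₁ ⊓ Q₂, y = 1 ∨ y = z ∨ y = x ∨ y = z * x :=
  (four_eq h.six.pair.inf h.six.pair.inf h.zne hx1 hxz.symm (zz h) (zX h) hx (zX h) hx).2

/-- a subgroup of `T` containing `X` is normal in `T` -/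
theorem T_Nm {K : Subgroup G} (hK : K ≤ Q₁ ⊔ Q₂) (hX : Q₁ ⊓ Q₂ ≤ K) : Q₁ ⊔ Q₂ ≤ Nm K := by
  rw [le_Nm]
  intro t ht k hk
  have h1 := h.six.pair.comm_mem ht (hK hk)
  have h2 : t * k * t⁻¹ = (t * k * t⁻¹ * k⁻¹) * k := by group
  rw [h2]
  exact K.mul_mem (hX h1) hk

theorem z_conj_ne {g : G} (hg : g * v * g⁻¹ = z) : g * z * g⁻¹ ≠ z := by
  intro h1
  have h2 : g * z * g⁻¹ = g * v * g⁻¹ := h1.trans hg.symm
  exact v_ne_z h (mul_left_cancel (mul_right_cancel h2)).symm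

/-- if `z^g ∈ X` and `Q^g ≤ T`, `v^g = z` then `F^g ≤ T` contains `X` -/
theorem F_le {g : G} [Finite G] (hg : g * v * g⁻¹ = z) (hz' : g * z * g⁻¹ ∈ Q₁ ⊓ Q₂)
    (hQ : ∀ a ∈ Qs Q₁ Q₂ v, g * a * g⁻¹ ∈ Q₁ ⊔ Q₂) :
    cj g (Fs Q₁ Q₂ v) ≤ Q₁ ⊔ Q₂ ∧ Q₁ ⊓ Q₂ ≤ cj g (Fs Q₁ Q₂ v) := by
  constructor
  · intro f hf
    rw [mem_cj] at hf
    have e : f = g * (g⁻¹ * f * g) * g⁻¹ := by group
    rcases (mem_F h).1 hf with h1 | ⟨a, ha, h1⟩
    · rw [e]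
      exact hQ _ h1
    · rw [e, h1]
      have e2 : g * (a * v) * g⁻¹ = (g * a * g⁻¹) * (g * v * g⁻¹) := by group
      rw [e2, hg]
      exact Subgroup.mul_mem _ (hQ a ha) (X_le_T h (zX h))
  · intro x hx
    have h1 : g * z * g⁻¹ ≠ 1 := fun h1 => h.zne (conj_eq_one_iff.1 h1)
    have hzF : z ∈ cj g (Fs Q₁ Q₂ v) := by
      have := conj_mem_cj (x := g) (X := Fs Q₁ Q₂ v).2 (v_F h)
      rwa [hg] at this
    have hzF' : g * z * g⁻¹ ∈ cj g (Fs Q₁ Q₂ v) := conj_mem_cj.2 (Q_le_F h (z_Q h))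
    rcases X_eq h hz' h1 (z_conj_ne h hg) x hx with rfl | rfl | rfl | rfl
    · exact Subgroup.one_mem _
    · exact hzF
    · exact hzF'
    · exact Subgroup.mul_mem _ hzF hzF'

/-- passing to a conjugating element which maps a 2-subgroup of `C(v)` into `P` -/
theorem exists_g [Finite G] (P : Sylow 2 G) (hPz : ∀ p ∈ (P : Subgroup G), p * z = z * p) {C : Subgroup G}
    (hC : C ≤ P) (hCv : ∀ c ∈ C, c * v = v * c) {x : G} (hx : x * v * x⁻¹ = z) :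
    ∃ g : G, g * v * g⁻¹ = z ∧ cj g C ≤ P := by
  have h1 : (P : Subgroup G) ≤ Subgroup.centralizer {z} := fun p hp => by
    rw [Subgroup.mem_centralizer_singleton_iff]
    exact hPz p hp
  have h2 : cj x C ≤ Subgroup.centralizer {z} := by
    intro c hc
    rw [mem_cj] at hc
    rw [Subgroup.mem_centralizer_singleton_iff, ← hx]
    have h3 := hCv _ hc
    calc c * (x * v * x⁻¹) = x * ((x⁻¹ * c * x) * v) * x⁻¹ := by group
      _ = x * (v * (x⁻¹ * c * x)) * x⁻¹ := by rw [h3]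
      _ = x * v * x⁻¹ * c := by group
  obtain ⟨k, hk, hkC⟩ := conj_le_sylow P h1 h2 (isPGroup_cj x (P.isPGroup'.to_le hC))
  refine ⟨k * x, ?_, ?_⟩
  · have e : k * x * v * (k * x)⁻¹ = k * (x * v * x⁻¹) * k⁻¹ := by group
    rw [e, hx, Subgroup.mem_centralizer_singleton_iff.1 hk, mul_assoc, mul_inv_cancel, mul_one]
  · rw [cj_mul]
    exact hkC

end Two

open Two in
theorem stepA960 [Finite G] {Q₁ Q₂ : Subgroup G} {τ v z : G} (h : TypeTwo Q₁ Q₂ τ v z) (P : Sylow 2 G)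
    (hP : (P : Subgroup G) = Q₁ ⊔ Q₂ ⊔ Subgroup.zpowers v)
    (hD : Nm Q₁ ⊓ Nm Q₂ = Q₁ ⊔ Q₂ ⊔ Subgroup.zpowers τ) :
    ∀ x : G, x * v * x⁻¹ ≠ z := by
  intro x hx
  have hmem : ∀ p, p ∈ (P : Subgroup G) ↔ p ∈ Q₁ ⊔ Q₂ ∨ ∃ t ∈ Q₁ ⊔ Q₂, p = t * v := by
    intro p
    rw [hP]
    exact mem_sup_zpowers h.v2 (v_T h)
  have hTP : Q₁ ⊔ Q₂ ≤ (P : Subgroup G) := fun t ht => (hmem t).2 (Or.inl ht)
  have hvP : v ∈ (P : Subgroup G) := (hmem v).2 (Or.inr ⟨1, Subgroup.one_mem _, (one_mul v).symm⟩)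
  have hJ : ∀ V : Subgroup G, V ≤ P → Nat.card V = 16 → (∀ x ∈ V, x * x = 1) → V = Q₁ ∨ V = Q₂ := by
    intro V hV h16 h2
    exact h.J (by rw [← hP]; exact hV) h16 h2
  have hPW : (P : Subgroup G) ≤ Nm (Ws Q₁ Q₂ v) := by
    rw [hP]
    exact sup_le (T_W h) ((Subgroup.zpowers_le).2 (self_le_Nm _ (v_W h)))
  have hPX : (P : Subgroup G) ≤ Nm (Q₁ ⊓ Q₂) := by
    rw [hP]
    exact sup_le (T_Nm h (X_le_T h) le_rfl) ((Subgroup.zpowers_le).2 (v_X h))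
  have hPz : ∀ p ∈ (P : Subgroup G), p * z = z * p := by
    intro p hp
    rcases (hmem p).1 hp with h1 | ⟨t, ht, rfl⟩
    · exact (xT h (zX h) h1).symm
    · rw [mul_assoc, h.vz, ← mul_assoc, ← xT h (zX h) ht, mul_assoc]
  have hNP : ∀ P₁ : Subgroup G, Q₁ ⊔ Q₂ ≤ P₁ → v ∈ P₁ → P₁ ≤ P → Nm P₁ ≤ P := by
    intro P₁ hT1 hv1 hP1 m hm
    have key : ∀ m' ∈ Nm P₁, m' ∈ Nm Q₁ ⊓ Nm Q₂ → m' ∈ (P : Subgroup G) := by
      intro m' hm1 hm2
      rw [hD, sup_comm, mul_mem_sup_iff] at hm2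
      · obtain ⟨a, ha, t, ht, rfl⟩ := hm2
        obtain ⟨i, rfl⟩ := Subgroup.mem_zpowers_iff.1 ha
        have h1 : τ ^ i ∈ Nm P₁ := by
          have := (Nm P₁).mul_mem hm1 ((Nm P₁).inv_mem (self_le_Nm _ (hT1 ht)))
          rwa [mul_inv_cancel_right] at this
        have h2 : τ ^ i * v * (τ ^ i)⁻¹ * v ∈ (P : Subgroup G) := hP1 (P₁.mul_mem (conj_zpow_mem h1 hv1) hv1)
        rw [zpow_tau P.isPGroup' h.six.three h.inv h.v2 h2, one_mul]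
        exact hTP ht
      · rw [Subgroup.zpowers_le, mem_Nm, cj_sup, cj_of_mem_Nm h.six.n₁, cj_of_mem_Nm h.six.n₂]
    rcases fix_of h hJ hT1 hP1 hm with h1 | h1
    · exact key m hm h1
    · have h2 := key _ ((Nm P₁).mul_mem hm (self_le_Nm _ hv1)) h1
      have h3 := (P : Subgroup G).mul_mem h2 hvP
      rwa [mul_assoc, h.v2, mul_one] at h3
  have hFP : Fs Q₁ Q₂ v ≤ (P : Subgroup G) :=
    sup_le ((Q_le_T h).trans hTP) ((Subgroup.zpowers_le).2 hvP)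
  have hFv : ∀ c ∈ Fs Q₁ Q₂ v, c * v = v * c := by
    intro c hc
    rcases (mem_F h).1 hc with h1 | ⟨a, ha, rfl⟩
    · exact (mem_Qs.1 h1).2.symm
    · rw [← mul_assoc v, (mem_Qs.1 ha).2]
  obtain ⟨g, hg, hgF⟩ := exists_g h P hPz hFP hFv hx
  -- `z^g ∈ X`
  have hgQ : ∀ a ∈ Qs Q₁ Q₂ v, g * a * g⁻¹ ∈ (P : Subgroup G) := fun a ha => hgF (conj_mem_cj.2 (Q_le_F h ha))
  have hsqz : ∀ a ∈ Qs Q₁ Q₂ v, a * a = z → g * a * g⁻¹ ∈ Q₁ ⊔ Q₂ → g * z * g⁻¹ ∈ Q₁ ⊓ Q₂ := by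
    intro a ha haz h1
    have h2 := h.six.pair.sq_mem h1
    have e : g * a * g⁻¹ * (g * a * g⁻¹) = g * (a * a) * g⁻¹ := by group
    rwa [e, haz] at h2
  obtain ⟨a, ha, haz⟩ := exists_sq h
  have hz' : g * z * g⁻¹ ∈ Q₁ ⊓ Q₂ := by
    rcases (hmem _).1 (hgQ a ha) with h1 | ⟨t, ht, h1⟩
    · exact hsqz a ha haz h1
    -- another element
    have hex : ∃ b ∈ Qs Q₁ Q₂ v, b ≠ 1 ∧ b ≠ z ∧ b ≠ a ∧ b ≠ a * z := by
      by_contra hcon
      push Not at hcon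
      have h2 : ((Qs Q₁ Q₂ v : Subgroup G) : Set G) ⊆ {1, z, a, a * z} := by
        intro b hb
        by_cases h3 : b = 1
        · exact Or.inl h3
        by_cases h4 : b = z
        · exact Or.inr (Or.inl h4)
        by_cases h5 : b = a
        · exact Or.inr (Or.inr (Or.inl h5))
        · exact Or.inr (Or.inr (Or.inr (hcon b hb h3 h4 h5)))
      have h3 : Nat.card ↥(Qs Q₁ Q₂ v) ≤ 4 := by
        refine (Set.ncard_le_ncard h2 (Set.toFinite _)).trans ?_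
        have i1 := Set.ncard_insert_le 1 ({z, a, a * z} : Set G)
        have i2 := Set.ncard_insert_le z ({a, a * z} : Set G)
        have i3 := pair_le a (a * z)
        omega
      have h4 : Nat.card ↥(Qs Q₁ Q₂ v) = 8 := h.card
      omega
    obtain ⟨b, hb, hb1, hb2, hb3, hb4⟩ := hex
    have hbz : b * b = z := by
      rcases sq_Q h hb with h2 | h2 | h2
      · exact absurd h2 hb1
      · exact absurd h2 hb2
      · exact h2
    rcases (hmem _).1 (hgQ b hb) with h2 | ⟨r, hr, h2⟩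
    · exact hsqz b hb hbz h2
    -- `g (a b) g⁻¹ ∈ T`
    have hai : a⁻¹ = a * z := by
      apply inv_eq_of_mul_eq_one_right
      calc a * (a * z) = (a * a) * z := by group
        _ = 1 := by rw [haz, zz h]
    refine hsqz (a * b) (Subgroup.mul_mem _ ha hb) ?_ ?_
    · rcases sq_Q h (Subgroup.mul_mem _ ha hb) with h3 | h3 | h3
      · exfalso
        apply hb4
        rw [← hai]
        exact eq_inv_of_mul_eq_one_right h3
      · exfalso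
        apply hb3
        calc b = a⁻¹ * (a * b) := by group
          _ = a * (z * z) := by rw [h3, hai]; group
          _ = a := by rw [zz h, mul_one]
      · exact h3
    · have e : g * (a * b) * g⁻¹ = (g * a * g⁻¹) * (g * b * g⁻¹) := by group
      rw [e, h1, h2]
      have e2 : t * v * (r * v) = t * (v * r * v) := by group
      rw [e2]
      exact Subgroup.mul_mem _ ht (vTv h hr)
  have hQT : ∀ a ∈ Qs Q₁ Q₂ v, g * a * g⁻¹ ∈ Q₁ ⊔ Q₂ := by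
    intro b hb
    rcases (hmem _).1 (hgQ b hb) with h1 | ⟨t, ht, h1⟩
    · exact h1
    · exfalso
      have h2 : b * z = z * b := (xT h (zX h) (Q_le_T h hb)).symm
      have h3 : (g * b * g⁻¹) * (g * z * g⁻¹) = (g * z * g⁻¹) * (g * b * g⁻¹) := by
        calc (g * b * g⁻¹) * (g * z * g⁻¹) = g * (b * z) * g⁻¹ := by group
          _ = g * (z * b) * g⁻¹ := by rw [h2]
          _ = _ := by group
      rw [h1] at h3
      have h4 : v * (g * z * g⁻¹) = (g * z * g⁻¹) * v := by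
        have h5 : t * (v * (g * z * g⁻¹)) = t * ((g * z * g⁻¹) * v) := by
          calc t * (v * (g * z * g⁻¹)) = t * v * (g * z * g⁻¹) := by group
            _ = (g * z * g⁻¹) * (t * v) := h3
            _ = ((g * z * g⁻¹) * t) * v := by group
            _ = (t * (g * z * g⁻¹)) * v := by rw [xT h hz' ht]
            _ = _ := by group
        exact mul_left_cancel h5
      rcases h.X _ hz' h4 with h6 | h6
      · exact h.zne (conj_eq_one_iff.1 h6)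
      · exact z_conj_ne h hg h6
  obtain ⟨hF1, hF2⟩ := F_le h hg hz' hQT
  refine core h P hTP hvP hJ hPW hPX hPz hNP (Q₁ ⊔ Q₂) le_rfl hTP ?_ ?_ g hg hF1 (T_Nm h hF1 hF2) ?_
  · rw [hP, card_sup_zpowers h.v2 (v_T h) (v_notMem h)]
  · intro u hu x hx
    exact (xT h hx hu).symm
  · intro w hwP hw2 hwT _
    rcases (hmem w).1 hwP with h1 | ⟨t, ht, rfl⟩
    · exact absurd h1 hwT
    · exact h.conj t ht hw2

end Cfsg.Agent.H302.St
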