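import Cfsg.Agent.H302.St.StepA

/-!
# S3568, STEP A in the case 1920
-/

set_option autoImplicit false
set_option linter.unusedSectionVars false

open Pointwise

namespace Cfsg.Agent.H302.St

open Cfsg.Agent.H399 Cfsg.Agent.H209.Five

variable {G : Type*} [Group G]

/-- an involution commuting with `v` and normalising `T`, `X` normalises `W` -/
theorem Nm_W_of {Q₁ Q₂ : Subgroup G} {v c : G} (hT : c ∈ Nm (Q₁ ⊔ Q₂)) (hX : c ∈ Nm (Q₁ ⊓ Q₂)) (hcv : c * v = v * c) :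
    c ∈ Nm (Qs Q₁ Q₂ v) ∧ c ∈ Nm (Ws Q₁ Q₂ v) := by
  have hzp : cj c (Subgroup.zpowers v) = Subgroup.zpowers v := by
    rw [cj_eq_map, MonoidHom.map_zpowers]
    have : (MulAut.conj c).toMonoidHom v = v := by
      show c * v * c⁻¹ = v
      rw [hcv, mul_assoc, mul_inv_cancel, mul_one]
    rw [this]
  have hQ : cj c (Qs Q₁ Q₂ v) = Qs Q₁ Q₂ v := by
    ext t
    rw [mem_cj, mem_Qs, mem_Qs]
    have h1 : c⁻¹ * t * c ∈ Q₁ ⊔ Q₂ ↔ t ∈ Q₁ ⊔ Q₂ := by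
      rw [← mem_cj, cj_of_mem_Nm hT]
    have h2 : v * (c⁻¹ * t * c) = (c⁻¹ * t * c) * v ↔ v * t = t * v := by
      have hcv' : c⁻¹ * v = v * c⁻¹ := by
        calc c⁻¹ * v = c⁻¹ * (v * c) * c⁻¹ := by group
          _ = c⁻¹ * (c * v) * c⁻¹ := by rw [hcv]
          _ = v * c⁻¹ := by group
      have e1 : v * (c⁻¹ * t * c) = c⁻¹ * (v * t) * c := by
        calc v * (c⁻¹ * t * c) = (v * c⁻¹) * t * c := by group
          _ = (c⁻¹ * v) * t * c := by rw [hcv']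
          _ = _ := by group
      have e2 : (c⁻¹ * t * c) * v = c⁻¹ * (t * v) * c := by
        calc (c⁻¹ * t * c) * v = c⁻¹ * t * (c * v) := by group
          _ = c⁻¹ * t * (v * c) := by rw [hcv]
          _ = _ := by group
      rw [e1, e2]
      constructor
      · intro h3
        exact mul_left_cancel (mul_right_cancel h3)
      · intro h3
        rw [h3]
    rw [h1, h2]
  refine ⟨mem_Nm.2 hQ, mem_Nm.2 ?_⟩
  rw [Ws, Ys, cj_sup, cj_sup, hQ, cj_of_mem_Nm hX, hzp]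

open Two in
theorem stepA1920 [Finite G] {Q₁ Q₂ : Subgroup G} {τ s u v z : G} (h₁ : TypeOne Q₁ Q₂ τ u) (h₂ : TypeTwo Q₁ Q₂ τ v z)
    (h₃ : TypeThree Q₁ Q₂ τ s z) (hsu : s * u = u * s) (hv : v = s * u) (P : Sylow 2 G)
    (hP : (P : Subgroup G) = Q₁ ⊔ Q₂ ⊔ Subgroup.zpowers s ⊔ Subgroup.zpowers u)
    (hD : Nm Q₁ ⊓ Nm Q₂ = Q₁ ⊔ Q₂ ⊔ Subgroup.zpowers τ ⊔ Subgroup.zpowers s) :
    ∀ x : G, x * v * x⁻¹ ≠ z := by
  intro x hx
  have h := h₂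
  have hss := h₃.s2
  have huu := h₁.u2
  have hsi : s⁻¹ = s := inv_eq_of_mul_eq_one_left hss
  have hui : u⁻¹ = u := inv_eq_of_mul_eq_one_left huu
  have hsv : s * v = u := by rw [hv, ← mul_assoc, hss, one_mul]
  have hvs : v * s = u := by rw [hv, hsu, mul_assoc, hss, mul_one]
  have huv : u * v = s := by rw [hv, hsu, ← mul_assoc, huu, one_mul]
  have hvu : v * u = s := by rw [hv, mul_assoc, huu, mul_one]
  have hsT : s ∈ Nm (Q₁ ⊔ Q₂) := by rw [mem_Nm, cj_sup, cj_of_mem_Nm h₃.n₁, cj_of_mem_Nm h₃.n₂]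
  have hsX : s ∈ Nm (Q₁ ⊓ Q₂) := by rw [mem_Nm, cj_inf, cj_of_mem_Nm h₃.n₁, cj_of_mem_Nm h₃.n₂]
  have huT : u ∈ Nm (Q₁ ⊔ Q₂) := by rw [mem_Nm, cj_sup, h₁.swap, h₁.swap', sup_comm]
  have huX : u ∈ Nm (Q₁ ⊓ Q₂) := by rw [mem_Nm, cj_inf, h₁.swap, h₁.swap', inf_comm]
  have huTs : u ∈ Nm (Q₁ ⊔ Q₂ ⊔ Subgroup.zpowers s) := by
    have : cj u (Subgroup.zpowers s) = Subgroup.zpowers s := by
      rw [cj_eq_map, MonoidHom.map_zpowers]
      have : (MulAut.conj u).toMonoidHom s = s := by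
        show u * s * u⁻¹ = s
        rw [← hsu, mul_assoc, mul_inv_cancel, mul_one]
      rw [this]
    rw [mem_Nm, cj_sup, cj_of_mem_Nm huT, this]
  -- the elements of `P`
  have hmem : ∀ p, p ∈ (P : Subgroup G) → p ∈ Q₁ ⊔ Q₂ ∨ (∃ t ∈ Q₁ ⊔ Q₂, p = t * s) ∨ (∃ t ∈ Q₁ ⊔ Q₂, p = t * u) ∨
      ∃ t ∈ Q₁ ⊔ Q₂, p = t * v := by
    intro p hp
    rw [hP] at hp
    rcases (mem_sup_zpowers huu huTs).1 hp with h1 | ⟨a, ha, rfl⟩
    · rcases (mem_sup_zpowers hss hsT).1 h1 with h4 | h4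
      · exact Or.inl h4
      · exact Or.inr (Or.inl h4)
    · rcases (mem_sup_zpowers hss hsT).1 ha with h4 | ⟨t, ht, rfl⟩
      · exact Or.inr (Or.inr (Or.inl ⟨a, h4, rfl⟩))
      · exact Or.inr (Or.inr (Or.inr ⟨t, ht, by rw [hv, mul_assoc]⟩))
  have hTP : Q₁ ⊔ Q₂ ≤ (P : Subgroup G) := by rw [hP]; exact le_sup_left.trans le_sup_left
  have hsP : s ∈ (P : Subgroup G) := by
    rw [hP]; exact Subgroup.mem_sup_left (Subgroup.mem_sup_right (Subgroup.mem_zpowers s))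
  have huP : u ∈ (P : Subgroup G) := by rw [hP]; exact Subgroup.mem_sup_right (Subgroup.mem_zpowers u)
  have hvP : v ∈ (P : Subgroup G) := by rw [hv]; exact (P : Subgroup G).mul_mem hsP huP
  have hJ : ∀ V : Subgroup G, V ≤ P → Nat.card V = 16 → (∀ x ∈ V, x * x = 1) → V = Q₁ ∨ V = Q₂ := by
    intro V hV h16 h2
    exact J1920 h₁ h₂ h₃ hsu hv (by rw [← hP]; exact hV) h16 h2
  have hsW := Nm_W_of hsT hsX (hsv.trans hvs.symm)
  have huW := Nm_W_of huT huX (huv.trans hvu.symm)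
  have hPW : (P : Subgroup G) ≤ Nm (Ws Q₁ Q₂ v) := by
    rw [hP]
    exact sup_le (sup_le (T_W h) ((Subgroup.zpowers_le).2 hsW.2)) ((Subgroup.zpowers_le).2 huW.2)
  have hPX : (P : Subgroup G) ≤ Nm (Q₁ ⊓ Q₂) := by
    rw [hP]
    exact sup_le (sup_le (T_Nm h (X_le_T h) le_rfl) ((Subgroup.zpowers_le).2 hsX)) ((Subgroup.zpowers_le).2 huX)
  have hPz : ∀ p ∈ (P : Subgroup G), p * z = z * p := by
    have key : ∀ t ∈ Q₁ ⊔ Q₂, ∀ c : G, c * z = z * c → t * c * z = z * (t * c) := by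
      intro t ht c hc
      rw [mul_assoc, hc, ← mul_assoc, ← xT h (zX h) ht, mul_assoc]
    intro p hp
    rcases hmem p hp with h1 | ⟨t, ht, rfl⟩ | ⟨t, ht, rfl⟩ | ⟨t, ht, rfl⟩
    · exact (xT h (zX h) h1).symm
    · exact key t ht s h₃.sz
    · exact key t ht u (h₁.X z (zX h))
    · exact key t ht v h.vz
  have hNP : ∀ P₁ : Subgroup G, Q₁ ⊔ Q₂ ≤ P₁ → v ∈ P₁ → P₁ ≤ P → Nm P₁ ≤ P := by
    intro P₁ hT1 hv1 hP1 m hm
    have hτT : Subgroup.zpowers τ ≤ Nm (Q₁ ⊔ Q₂) := by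
      rw [Subgroup.zpowers_le, mem_Nm, cj_sup, cj_of_mem_Nm h.six.n₁, cj_of_mem_Nm h.six.n₂]
    have hsTτ : s ∈ Nm (Q₁ ⊔ Q₂ ⊔ Subgroup.zpowers τ) := by
      have : cj s (Subgroup.zpowers τ) = Subgroup.zpowers τ := by
        rw [cj_eq_map, MonoidHom.map_zpowers]
        have : (MulAut.conj s).toMonoidHom τ = τ⁻¹ := by
          show s * τ * s⁻¹ = τ⁻¹
          rw [hsi, h₃.inv]
        rw [this, Subgroup.zpowers_inv]
      rw [mem_Nm, cj_sup, cj_of_mem_Nm hsT, this]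
    have key : ∀ m' ∈ Nm P₁, m' ∈ Nm Q₁ ⊓ Nm Q₂ → m' ∈ (P : Subgroup G) := by
      intro m' hm1 hm2
      rw [hD] at hm2
      have key2 : ∀ m₂ ∈ Q₁ ⊔ Q₂ ⊔ Subgroup.zpowers τ, m₂ * v * m₂⁻¹ ∈ P₁ → m₂ ∈ (P : Subgroup G) := by
        intro m₂ hm3 hm4
        rw [sup_comm, mul_mem_sup_iff hτT] at hm3
        obtain ⟨a, ha, t, ht, rfl⟩ := hm3
        obtain ⟨i, rfl⟩ := Subgroup.mem_zpowers_iff.1 ha
        have h2 : τ ^ i * v * (τ ^ i)⁻¹ * v ∈ (P : Subgroup G) := by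
          have e : τ ^ i * v * (τ ^ i)⁻¹ * v =
              (τ ^ i * t * (τ ^ i)⁻¹)⁻¹ * (τ ^ i * t * v * (τ ^ i * t)⁻¹) * (τ ^ i * t * (τ ^ i)⁻¹) * v := by group
          have h5 : τ ^ i * t * (τ ^ i)⁻¹ ∈ Q₁ ⊔ Q₂ := conj_zpow_mem (hτT ha) ht
          rw [e]
          exact (P : Subgroup G).mul_mem ((P : Subgroup G).mul_mem ((P : Subgroup G).mul_mem
            ((P : Subgroup G).inv_mem (hTP h5)) (hP1 hm4)) (hTP h5)) hvP
        rw [zpow_tau P.isPGroup' h.six.three h.inv h.v2 h2, one_mul]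
        exact hTP ht
      have hcv : ∀ m₂ ∈ Nm P₁, m₂ * v * m₂⁻¹ ∈ P₁ := fun m₂ hm => conj_zpow_mem hm hv1
      rcases (mem_sup_zpowers hss hsTτ).1 hm2 with h5 | ⟨a, ha, rfl⟩
      · exact key2 m' h5 (hcv m' hm1)
      · refine (P : Subgroup G).mul_mem (key2 a ha ?_) hsP
        have h6 := hcv _ hm1
        have e : a * s * v * (a * s)⁻¹ = a * v * a⁻¹ := by
          calc a * s * v * (a * s)⁻¹ = a * (s * v) * s⁻¹ * a⁻¹ := by group
            _ = a * (v * s) * s⁻¹ * a⁻¹ := by rw [hsv, hvs]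
            _ = a * v * a⁻¹ := by group
        rwa [e] at h6
    rcases fix_of h hJ hT1 hP1 hm with h1 | h1
    · exact key m hm h1
    · have h2 := key _ ((Nm P₁).mul_mem hm (self_le_Nm _ hv1)) h1
      have h3 := (P : Subgroup G).mul_mem h2 hvP
      rwa [mul_assoc, h.v2, mul_one] at h3
  -- the centraliser of `v` in `P`
  let C : Subgroup G := (P : Subgroup G) ⊓ Subgroup.centralizer {v}
  have hCmem : ∀ c, c ∈ C ↔ c ∈ (P : Subgroup G) ∧ c * v = v * c := by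
    intro c
    show c ∈ (P : Subgroup G) ⊓ Subgroup.centralizer {v} ↔ _
    rw [Subgroup.mem_inf, Subgroup.mem_centralizer_singleton_iff]
  obtain ⟨g, hg, hgC⟩ := exists_g h P hPz (C := C) inf_le_left (fun c hc => ((hCmem c).1 hc).2) hx
  have hCP : ∀ c ∈ C, g * c * g⁻¹ ∈ (P : Subgroup G) := fun c hc => hgC (conj_mem_cj.2 hc)
  have hQC : ∀ a ∈ Qs Q₁ Q₂ v, a ∈ C := fun a ha => (hCmem a).2 ⟨hTP (mem_Qs.1 ha).1, (mem_Qs.1 ha).2.symm⟩
  have hsC : s ∈ C := (hCmem s).2 ⟨hsP, hsv.trans hvs.symm⟩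
  -- `s` acts nontrivially on `Q / ⟨z⟩`
  have hact : ∃ a ∈ Qs Q₁ Q₂ v, s * a * s * a⁻¹ ∉ Q₂ := by
    obtain ⟨q, hq, hsq⟩ := h₃.act
    have h1 := mem_Y_of h hq (Subgroup.one_mem (Q₁ ⊓ Q₂))
    rw [mul_one] at h1
    obtain ⟨a, ha, x, hx, hax⟩ := (mem_Y h).1 h1
    refine ⟨a, ha, ?_⟩
    have hm' : v * q * v ∈ Q₂ := v_mem₁ h hq
    have hTQ₂ : Q₁ ⊔ Q₂ ≤ Nm Q₂ := sup_le h.six.pair.nm₂ (self_le_Nm _)
    -- `a = q * y` with `y ∈ Q₂`
    have e1 : a = q * ((v * q * v) * x⁻¹) := by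
      rw [← mul_assoc, hax, mul_assoc, mul_inv_cancel, mul_one]
    have hy : (v * q * v) * x⁻¹ ∈ Q₂ := Q₂.mul_mem hm' (Q₂.inv_mem hx.2)
    intro h2
    apply hsq
    have e2 : s * a * s * a⁻¹ = (s * q * s * q⁻¹) * (q * ((s * ((v * q * v) * x⁻¹) * s⁻¹) * ((v * q * v) * x⁻¹)⁻¹) * q⁻¹) := by
      rw [e1, hsi]
      calc s * (q * (v * q * v * x⁻¹)) * s * (q * (v * q * v * x⁻¹))⁻¹ =
          s * q * (1 : G) * (v * q * v * x⁻¹) * s * (v * q * v * x⁻¹)⁻¹ * q⁻¹ := by group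
        _ = s * q * (s * s) * (v * q * v * x⁻¹) * s * (v * q * v * x⁻¹)⁻¹ * q⁻¹ := by rw [hss]
        _ = _ := by group
    have h3 : q * ((s * ((v * q * v) * x⁻¹) * s⁻¹) * ((v * q * v) * x⁻¹)⁻¹) * q⁻¹ ∈ Q₂ :=
      conj_zpow_mem (hTQ₂ (Subgroup.mem_sup_left hq))
        (Q₂.mul_mem (conj_zpow_mem h₃.n₂ hy) (Q₂.inv_mem hy))
    rw [e2] at h2
    have h4 := Q₂.mul_mem h2 (Q₂.inv_mem h3)
    rwa [mul_inv_cancel_right] at h4
  obtain ⟨a₁, ha₁, ha₁s⟩ := hact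
  set k := s * a₁ * s * a₁⁻¹ with hk
  have hkQ : k ∈ Qs Q₁ Q₂ v := by
    have h1 := conj_zpow_mem hsW.1 ha₁
    rw [hsi] at h1
    exact Subgroup.mul_mem _ h1 (Subgroup.inv_mem _ ha₁)
  have hkz : k * k = z := by
    rcases sq_Q h hkQ with h1 | h1 | h1
    · exact absurd (h1 ▸ Q₂.one_mem) ha₁s
    · exact absurd (h1 ▸ h.z₂) ha₁s
    · exact h1
  -- commutators of `P` lie in `T`
  have hsT' : ∀ t ∈ Q₁ ⊔ Q₂, s * t * s ∈ Q₁ ⊔ Q₂ := fun t ht => by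
    have := conj_zpow_mem hsT ht
    rwa [hsi] at this
  have huT' : ∀ t ∈ Q₁ ⊔ Q₂, u * t * u ∈ Q₁ ⊔ Q₂ := fun t ht => by
    have := conj_zpow_mem huT ht
    rwa [hui] at this
  have hPT : (P : Subgroup G) ≤ Nm (Q₁ ⊔ Q₂) := by
    rw [hP]
    exact sup_le (sup_le (self_le_Nm _) ((Subgroup.zpowers_le).2 hsT)) ((Subgroup.zpowers_le).2 huT)
  have hcommP : ∀ p ∈ (P : Subgroup G), ∀ q ∈ (P : Subgroup G), p * q * p⁻¹ * q⁻¹ ∈ Q₁ ⊔ Q₂ := by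
    -- write `p = t c`, `c ∈ {1, s, u, v}`
    have hdec : ∀ p ∈ (P : Subgroup G), ∃ t ∈ Q₁ ⊔ Q₂, ∃ c, (c = 1 ∨ c = s ∨ c = u ∨ c = v) ∧ p = t * c := by
      intro p hp
      rcases hmem p hp with h1 | ⟨t, ht, rfl⟩ | ⟨t, ht, rfl⟩ | ⟨t, ht, rfl⟩
      · exact ⟨p, h1, 1, Or.inl rfl, (mul_one p).symm⟩
      · exact ⟨t, ht, s, Or.inr (Or.inl rfl), rfl⟩
      · exact ⟨t, ht, u, Or.inr (Or.inr (Or.inl rfl)), rfl⟩
      · exact ⟨t, ht, v, Or.inr (Or.inr (Or.inr rfl)), rfl⟩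
    have hcc : ∀ c d : G, (c = 1 ∨ c = s ∨ c = u ∨ c = v) → (d = 1 ∨ d = s ∨ d = u ∨ d = v) → c * d = d * c := by
      rintro c d (rfl | rfl | rfl | rfl) (rfl | rfl | rfl | rfl) <;>
        simp only [one_mul, mul_one, hsu, hsv, hvs, huv, hvu]
    have hcN : ∀ c : G, (c = 1 ∨ c = s ∨ c = u ∨ c = v) → c ∈ Nm (Q₁ ⊔ Q₂) := by
      rintro c (rfl | rfl | rfl | rfl)
      · exact Subgroup.one_mem _
      · exact hsT
      · exact huT
      · exact v_T h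
    intro p hp q hq
    obtain ⟨t, ht, c, hc, rfl⟩ := hdec p hp
    obtain ⟨r, hr, d, hd, rfl⟩ := hdec q hq
    have e : t * c * (r * d) * (t * c)⁻¹ * (r * d)⁻¹ =
        t * (c * r * c⁻¹) * ((c * d) * (c⁻¹ * t⁻¹ * c) * (c * d)⁻¹) * (c * d * (d * c)⁻¹) * r⁻¹ := by group
    rw [e, hcc c d hc hd, mul_inv_cancel, mul_one]
    have h1 := conj_zpow_mem (hcN c hc) hr
    have h2 : c⁻¹ * t⁻¹ * c ∈ Q₁ ⊔ Q₂ := by
      have := conj_zpow_mem ((Nm (Q₁ ⊔ Q₂)).inv_mem (hcN c hc)) (Subgroup.inv_mem _ ht)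
      rwa [inv_inv] at this
    have h3 := conj_zpow_mem ((Nm (Q₁ ⊔ Q₂)).mul_mem (hcN d hd) (hcN c hc)) h2
    exact Subgroup.mul_mem _ (Subgroup.mul_mem _ (Subgroup.mul_mem _ ht h1) h3) (Subgroup.inv_mem _ hr)
  have hgk : g * k * g⁻¹ = (g * s * g⁻¹) * (g * a₁ * g⁻¹) * (g * s * g⁻¹)⁻¹ * (g * a₁ * g⁻¹)⁻¹ := by
    have : (g * s * g⁻¹)⁻¹ = g * s * g⁻¹ := by
      rw [mul_inv_rev, mul_inv_rev, inv_inv, hsi, mul_assoc]
    rw [this, hk]
    group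
  have hgkT : g * k * g⁻¹ ∈ Q₁ ⊔ Q₂ := by
    rw [hgk]
    exact hcommP _ (hCP s hsC) _ (hCP a₁ (hQC a₁ ha₁))
  have hgk2 : g * k * g⁻¹ * (g * k * g⁻¹) = g * z * g⁻¹ := by
    rw [← hkz]; group
  have hz' : g * z * g⁻¹ ∈ Q₁ ⊓ Q₂ := by
    rw [← hgk2]
    exact h.six.pair.sq_mem hgkT
  have hz'1 : g * z * g⁻¹ ≠ 1 := fun h1 => h.zne (conj_eq_one_iff.1 h1)
  -- the group `U = T⟨u⟩`
  let U : Subgroup G := Q₁ ⊔ Q₂ ⊔ Subgroup.zpowers u
  have hUmem : ∀ p, p ∈ U ↔ p ∈ Q₁ ⊔ Q₂ ∨ ∃ t ∈ Q₁ ⊔ Q₂, p = t * u := fun p => mem_sup_zpowers huu huT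
  have hUX : ∀ p ∈ U, ∀ x ∈ Q₁ ⊓ Q₂, p * x = x * p := by
    intro p hp x hx
    rcases (hUmem p).1 hp with h1 | ⟨t, ht, rfl⟩
    · exact (xT h hx h1).symm
    · rw [mul_assoc, h₁.X x hx, ← mul_assoc, ← xT h hx ht, mul_assoc]
  -- elements of `P` centralising `X` lie in `U`
  obtain ⟨x₀, hx₀, hx₀z⟩ := exists_x0 h
  have hx₀v : ¬ v * x₀ = x₀ * v := by
    intro h1
    rw [h1, mul_assoc x₀, h.v2, mul_one, xsq h hx₀] at hx₀z
    exact h.zne hx₀z.symm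
  have hx₀s : ¬ s * x₀ = x₀ * s := by
    intro h1
    apply hx₀v
    rw [hv, mul_assoc, h₁.X x₀ hx₀, ← mul_assoc, h1, mul_assoc]
  have hPU : ∀ p ∈ (P : Subgroup G), p * x₀ = x₀ * p → p ∈ U := by
    intro p hp hpx
    rcases hmem p hp with h1 | ⟨t, ht, rfl⟩ | ⟨t, ht, rfl⟩ | ⟨t, ht, rfl⟩
    · exact (hUmem p).2 (Or.inl h1)
    · exfalso
      apply hx₀s
      have h2 : t * (s * x₀) = t * (x₀ * s) := by
        calc t * (s * x₀) = t * s * x₀ := by group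
          _ = x₀ * (t * s) := hpx
          _ = (x₀ * t) * s := by group
          _ = (t * x₀) * s := by rw [xT h hx₀ ht]
          _ = _ := by group
      exact mul_left_cancel h2
    · exact (hUmem _).2 (Or.inr ⟨t, ht, rfl⟩)
    · exfalso
      apply hx₀v
      have h2 : t * (v * x₀) = t * (x₀ * v) := by
        calc t * (v * x₀) = t * v * x₀ := by group
          _ = x₀ * (t * v) := hpx
          _ = (x₀ * t) * v := by group
          _ = (t * x₀) * v := by rw [xT h hx₀ ht]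
          _ = _ := by group
      exact mul_left_cancel h2
  have hCU : ∀ c ∈ C, g * c * g⁻¹ ∈ U := by
    intro c hc
    refine hPU _ (hCP c hc) ?_
    have h1 : (g * c * g⁻¹) * z = z * (g * c * g⁻¹) := by
      rw [← hg]
      calc g * c * g⁻¹ * (g * v * g⁻¹) = g * (c * v) * g⁻¹ := by group
        _ = g * (v * c) * g⁻¹ := by rw [((hCmem c).1 hc).2]
        _ = _ := by group
    have h2 : (g * c * g⁻¹) * (g * z * g⁻¹) = (g * z * g⁻¹) * (g * c * g⁻¹) := by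
      calc g * c * g⁻¹ * (g * z * g⁻¹) = g * (c * z) * g⁻¹ := by group
        _ = g * (z * c) * g⁻¹ := by rw [hPz c ((hCmem c).1 hc).1]
        _ = _ := by group
    rcases X_eq h hz' hz'1 (z_conj_ne h hg) x₀ hx₀ with h3 | h3 | h3 | h3
    · rw [h3, mul_one, one_mul]
    · rw [h3]; exact h1
    · rw [h3]; exact h2
    · rw [h3, ← mul_assoc, h1, mul_assoc z, h2, ← mul_assoc z]
  have hQT : ∀ a ∈ Qs Q₁ Q₂ v, g * a * g⁻¹ ∈ Q₁ ⊔ Q₂ := by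
    intro a ha
    rcases (hUmem _).1 (hCU a (hQC a ha)) with h1 | ⟨t, ht, h1⟩
    · exact h1
    · have h4 : (t * u) ^ 4 = 1 := by
        rw [← h1, conj_pow, h.six.pair.pow_four (Q_le_T h ha), mul_one, mul_inv_cancel]
      have h5 := h₁.sq t ht h4
      rw [← h1] at h5
      have e : g * a * g⁻¹ * (g * a * g⁻¹) = g * (a * a) * g⁻¹ := by group
      rw [e] at h5
      have h6 := conj_eq_one_iff.1 h5
      rcases sq_Q h ha with h7 | h7 | h7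
      · rw [h7, mul_one, mul_inv_cancel]
        exact Subgroup.one_mem _
      · rw [h7]
        exact X_le_T h hz'
      · rw [h6] at h7
        exact absurd h7.symm h.zne
  obtain ⟨hF1, hF2⟩ := F_le h hg hz' hQT
  have hTF := T_Nm h hF1 hF2
  -- `u` normalises `F^g`
  have hgsF : g * s * g⁻¹ ∈ Nm (cj g (Fs Q₁ Q₂ v)) := by
    rw [← cj_Nm]
    refine conj_mem_cj.2 ?_
    have hzp : cj s (Subgroup.zpowers v) = Subgroup.zpowers v := by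
      rw [cj_eq_map, MonoidHom.map_zpowers]
      have : (MulAut.conj s).toMonoidHom v = v := by
        show s * v * s⁻¹ = v
        rw [hsi, hsv, ← hvs, mul_assoc, hss, mul_one]
      rw [this]
    rw [mem_Nm, Fs, cj_sup, cj_of_mem_Nm hsW.1, hzp]
  have huF : u ∈ Nm (cj g (Fs Q₁ Q₂ v)) := by
    rcases (hUmem _).1 (hCU s hsC) with h1 | ⟨t, ht, h1⟩
    · exfalso
      have h2 : g * k * g⁻¹ ∈ Q₁ ⊓ Q₂ := by
        rw [hgk]
        exact h.six.pair.comm_mem h1 (hQT a₁ ha₁)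
      have h3 := xsq h h2
      rw [hgk2] at h3
      exact hz'1 h3
    · have e : u = t⁻¹ * (g * s * g⁻¹) := by rw [h1]; group
      rw [e]
      exact Subgroup.mul_mem _ (Subgroup.inv_mem _ (hTF ht)) hgsF
  refine core h P hTP hvP hJ hPW hPX hPz hNP U le_sup_left ?_ ?_ hUX g hg hF1 ?_ ?_
  · exact sup_le hTP ((Subgroup.zpowers_le).2 huP)
  · have hsU : s ∈ Nm U := by
      have : cj s (Subgroup.zpowers u) = Subgroup.zpowers u := by
        rw [cj_eq_map, MonoidHom.map_zpowers]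
        have : (MulAut.conj s).toMonoidHom u = u := by
          show s * u * s⁻¹ = u
          rw [hsu, mul_assoc, mul_inv_cancel, mul_one]
        rw [this]
      show s ∈ Nm (Q₁ ⊔ Q₂ ⊔ Subgroup.zpowers u)
      rw [mem_Nm, cj_sup, cj_of_mem_Nm hsT, this]
    have hsnU : s ∉ U := fun h1 => hx₀s (hUX s h1 x₀ hx₀)
    have hPeq : (P : Subgroup G) = U ⊔ Subgroup.zpowers s := by
      rw [hP]
      show _ = Q₁ ⊔ Q₂ ⊔ Subgroup.zpowers u ⊔ Subgroup.zpowers s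
      rw [sup_assoc, sup_assoc, sup_comm (Subgroup.zpowers s)]
      rw [← sup_assoc, ← sup_assoc]
    rw [hPeq, card_sup_zpowers hss hsU hsnU]
  · exact sup_le hTF ((Subgroup.zpowers_le).2 huF)
  · intro w hwP hw2 hwU hwY
    rcases hmem w hwP with h1 | ⟨t, ht, rfl⟩ | ⟨t, ht, rfl⟩ | ⟨t, ht, rfl⟩
    · exact absurd ((hUmem w).2 (Or.inl h1)) hwU
    · exfalso
      obtain ⟨y, hy, hyt⟩ := h₃.conj t ht hw2
      have hb : y * a₁ * y⁻¹ ∈ Ys Q₁ Q₂ v := conj_zpow_mem (T_Y h hy) (Q_le_Y h ha₁)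
      have h1 := hwY _ hb
      rw [← hyt] at h1
      have e : y * s * y⁻¹ * (y * a₁ * y⁻¹) * (y * s * y⁻¹)⁻¹ * (y * a₁ * y⁻¹)⁻¹ = y * k * y⁻¹ := by
        have : (y * s * y⁻¹)⁻¹ = y * s * y⁻¹ := by
          rw [mul_inv_rev, mul_inv_rev, inv_inv, hsi, mul_assoc]
        rw [this, hk]
        group
      rw [e] at h1
      rcases h1 with h1 | h1
      · have h4 := conj_eq_one_iff.1 h1
        exact ha₁s (h4 ▸ Q₂.one_mem)
      · apply ha₁s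
        have h4 : k = z := by
          calc k = y⁻¹ * (y * k * y⁻¹) * y := by group
            _ = y⁻¹ * (z * y) := by rw [h1]; group
            _ = y⁻¹ * (y * z) := by rw [xT h (zX h) hy]
            _ = z := by group
        rw [h4]
        exact h.z₂
    · exact absurd ((hUmem _).2 (Or.inr ⟨t, ht, rfl⟩)) hwU
    · exact h.conj t ht hw2

end Cfsg.Agent.H302.St
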