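import Cfsg.Agent.H302.St.Subtwo

/-!
# S3568, STEP A: the action of `N(W)` on the five classes of non-central involutions of `W`
-/

set_option autoImplicit false
set_option linter.unusedSectionVars false

open Pointwise

namespace Cfsg.Agent.H302.St

open Cfsg.Agent.H399 Cfsg.Agent.H209.Five

theorem card_omega {T Ω : Type*} [Group T] (f : T →* Equiv.Perm Ω) (o a₀ : Ω) (ha₀ : a₀ ≠ o)
    (hfix : ∀ t, f t o = o) (htr : ∀ a, a ≠ o → ∃ t, f t a₀ = a) (K : Subgroup T) (hK : ∀ t, t ∈ K ↔ f t a₀ = a₀)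
    (h4 : K.index = 4) : Nat.card Ω = 5 := by
  classical
  have hap : ∀ (m n : T) (a : Ω), f (m * n) a = f m (f n a) := fun m n a => by rw [map_mul]; rfl
  let g : Option (T ⧸ K) → Ω := fun x => match x with
    | none => o
    | some q => Quotient.liftOn' q (fun t => f t a₀) (by
        intro s t hst
        have h1 : s⁻¹ * t ∈ K := QuotientGroup.leftRel_apply.1 hst
        have h2 := (hK _).1 h1
        rw [hap] at h2
        have h3 := congrArg (f s) h2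
        rw [← hap, mul_inv_cancel, map_one] at h3
        exact h3.symm)
  have hg : ∀ t : T, g (some (QuotientGroup.mk t)) = f t a₀ := fun t => rfl
  have hne : ∀ t : T, f t a₀ ≠ o := by
    intro t ht
    apply ha₀
    have h1 := congrArg (f t⁻¹) ht
    rw [← hap, inv_mul_cancel, map_one, hfix] at h1
    exact h1
  have hb : Function.Bijective g := by
    constructor
    · intro x y hxy
      rcases x with _ | x <;> rcases y with _ | y
      · rfl
      · obtain ⟨t, rfl⟩ := QuotientGroup.mk_surjective y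
        rw [hg] at hxy
        exact absurd hxy.symm (hne t)
      · obtain ⟨t, rfl⟩ := QuotientGroup.mk_surjective x
        rw [hg] at hxy
        exact absurd hxy (hne t)
      · obtain ⟨s, rfl⟩ := QuotientGroup.mk_surjective x
        obtain ⟨t, rfl⟩ := QuotientGroup.mk_surjective y
        rw [hg, hg] at hxy
        congr 1
        rw [QuotientGroup.eq, hK, hap, ← hxy, ← hap, inv_mul_cancel, map_one]
        rfl
    · intro a
      by_cases ha : a = o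
      · exact ⟨none, ha.symm⟩
      · obtain ⟨t, ht⟩ := htr a ha
        exact ⟨some (QuotientGroup.mk t), by rw [hg, ht]⟩
  have hfin : Finite (T ⧸ K) := by
    apply Nat.finite_of_card_ne_zero
    rw [← Subgroup.index_eq_card, h4]
    norm_num
  rw [← Nat.card_congr (Equiv.ofBijective g hb), Finite.card_option, ← Subgroup.index_eq_card, h4]

variable {G : Type*} [Group G] {Q₁ Q₂ : Subgroup G} {τ v z : G}

/-- the four-subgroups of `W` containing `z` -/
def Om (W : Subgroup G) (z : G) : Set (Subgroup G) :=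
  {A | A ≤ W ∧ z ∈ A ∧ Nat.card A = 4 ∧ ∀ a ∈ A, a * a = 1}

theorem Om_cj {W : Subgroup G} {z m : G} (hm : m ∈ Nm W) (hmz : m * z * m⁻¹ = z) {A : Subgroup G} (hA : A ∈ Om W z) :
    cj m A ∈ Om W z := by
  obtain ⟨h1, h2, h3, h4⟩ := hA
  refine ⟨?_, ?_, ?_, ?_⟩
  · rw [← cj_of_mem_Nm hm]
    exact cj_le_cj.2 h1
  · have := conj_mem_cj (x := m).2 h2
    rwa [hmz] at this
  · rw [card_cj, h3]
  · intro a ha
    have h5 := h4 _ (mem_cj.1 ha)
    have h6 : m⁻¹ * a * m * (m⁻¹ * a * m) = m⁻¹ * (a * a) * m⁻¹⁻¹ := by group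
    rw [h6] at h5
    exact conj_eq_one_iff.1 h5

/-- the action of `N(W)` on `Om W z` -/
def act (W : Subgroup G) (z : G) (hz : ∀ m ∈ Nm W, m * z * m⁻¹ = z) : ↥(Nm W) →* Equiv.Perm (Om W z) where
  toFun m :=
    { toFun := fun A => ⟨cj (m : G) A, Om_cj m.2 (hz m m.2) A.2⟩
      invFun := fun A => ⟨cj (m : G)⁻¹ A, Om_cj ((Nm W).inv_mem m.2) (hz _ ((Nm W).inv_mem m.2)) A.2⟩
      left_inv := fun A => Subtype.ext (cj_inv_cj _ _)
      right_inv := fun A => Subtype.ext (cj_cj_inv _ _) }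
  map_one' := by
    ext1 A
    exact Subtype.ext (cj_one _)
  map_mul' m n := by
    ext1 A
    exact Subtype.ext (cj_mul _ _ _)

theorem act_apply {W : Subgroup G} {z : G} (hz : ∀ m ∈ Nm W, m * z * m⁻¹ = z) (m : ↥(Nm W)) (A : Om W z) :
    ((act W z hz m A : Om W z) : Subgroup G) = cj (m : G) A := rfl

namespace Two

variable (h : TypeTwo Q₁ Q₂ τ v z)

include h

theorem X_Om : Q₁ ⊓ Q₂ ∈ Om (Ws Q₁ Q₂ v) z :=
  ⟨(X_le_Y h).trans (Y_le_W h), zX h, h.six.pair.inf, fun _ ha => xsq h ha⟩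

theorem V_Om : ∃ V ∈ Om (Ws Q₁ Q₂ v) z, v ∈ V := by
  have hvn : z ∈ Nm (Subgroup.zpowers v) := by
    rw [mem_Nm, cj_eq_map, MonoidHom.map_zpowers]
    have : (MulAut.conj z).toMonoidHom v = v := by
      show z * v * z⁻¹ = v
      rw [← h.vz, mul_assoc, mul_inv_cancel, mul_one]
    rw [this]
  have hzv : z ∉ Subgroup.zpowers v := by
    intro hz
    obtain ⟨n, hn⟩ := Subgroup.mem_zpowers_iff.1 hz
    rcases Int.even_or_odd' n with ⟨k, rfl | rfl⟩
    · rw [zpow_mul, zpow_two, h.v2, one_zpow] at hn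
      exact h.zne hn.symm
    · rw [zpow_add, zpow_mul, zpow_two, h.v2, one_zpow, one_mul, zpow_one] at hn
      exact v_notMem h (hn ▸ X_le_T h (zX h))
  have hv1 : v ≠ 1 := fun hv => v_notMem h (hv ▸ Subgroup.one_mem _)
  have hc : Nat.card (Subgroup.zpowers v) = 2 := by
    rw [Nat.card_zpowers]
    exact orderOf_eq_prime (by rw [pow_two]; exact h.v2) hv1
  have hc4 : ∀ t ∈ Subgroup.zpowers v ⊔ Subgroup.zpowers z, t = 1 ∨ t = v ∨ t = z ∨ t = v * z := by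
    intro t ht
    have hvz : ∀ x ∈ Subgroup.zpowers v, x = 1 ∨ x = v := by
      intro x hx
      obtain ⟨n, rfl⟩ := Subgroup.mem_zpowers_iff.1 hx
      rcases Int.even_or_odd' n with ⟨k, rfl | rfl⟩
      · left
        rw [zpow_mul, zpow_two, h.v2, one_zpow]
      · right
        rw [zpow_add, zpow_mul, zpow_two, h.v2, one_zpow, one_mul, zpow_one]
    rcases (mem_sup_zpowers (zz h) hvn).1 ht with h1 | ⟨a, ha, rfl⟩
    · rcases hvz t h1 with h2 | h2
      · exact Or.inl h2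
      · exact Or.inr (Or.inl h2)
    · rcases hvz a ha with h2 | h2
      · exact Or.inr (Or.inr (Or.inl (by rw [h2, one_mul])))
      · exact Or.inr (Or.inr (Or.inr (by rw [h2])))
  refine ⟨Subgroup.zpowers v ⊔ Subgroup.zpowers z, ⟨?_, ?_, ?_, ?_⟩, Subgroup.mem_sup_left (Subgroup.mem_zpowers v)⟩
  · refine sup_le ((Subgroup.zpowers_le).2 (v_W h)) ((Subgroup.zpowers_le).2 (Y_le_W h (z_Y h)))
  · exact Subgroup.mem_sup_right (Subgroup.mem_zpowers z)
  · have : Finite (Subgroup.zpowers v) := Nat.finite_of_card_ne_zero (by rw [hc]; norm_num)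
    have hfin : Finite ↥(Subgroup.zpowers v ⊔ Subgroup.zpowers z) := by
      have : Set.Finite ((Subgroup.zpowers v ⊔ Subgroup.zpowers z : Subgroup G) : Set G) :=
        Set.Finite.subset (Set.toFinite {1, v, z, v * z}) (fun t ht => by
          simpa using hc4 t ht)
      exact this
    have h1 : ((Subgroup.zpowers v ⊔ Subgroup.zpowers z : Subgroup G) : Set G) = {1, v, z, v * z} := by
      ext t
      constructor
      · intro ht
        simpa using hc4 t ht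
      · have a1 : v ∈ Subgroup.zpowers v ⊔ Subgroup.zpowers z := Subgroup.mem_sup_left (Subgroup.mem_zpowers v)
        have a2 : z ∈ Subgroup.zpowers v ⊔ Subgroup.zpowers z := Subgroup.mem_sup_right (Subgroup.mem_zpowers z)
        rintro (rfl | rfl | rfl | rfl)
        · exact Subgroup.one_mem _
        · exact a1
        · exact a2
        · exact Subgroup.mul_mem _ a1 a2
    have h2 : Set.ncard ({1, v, z, v * z} : Set G) = 4 := by
      rw [Set.ncard_insert_of_notMem, Set.ncard_insert_of_notMem, Set.ncard_pair]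
      · intro h3
        exact hv1 (right_eq_mul.1 h3)
      · rintro (h3 | h3)
        · exact hzv (h3 ▸ Subgroup.mem_zpowers v)
        · exact h.zne (left_eq_mul.1 h3)
      · rintro (h3 | h3 | h3)
        · exact hv1 h3.symm
        · exact h.zne h3.symm
        · apply hzv
          have : z = v := by
            calc z = (v * v) * z := by rw [h.v2, one_mul]
              _ = v * (v * z) := by group
              _ = v := by rw [← h3, mul_one]
          rw [this]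
          exact Subgroup.mem_zpowers v
    have h3 : Nat.card ↥(Subgroup.zpowers v ⊔ Subgroup.zpowers z) =
        Set.ncard ((Subgroup.zpowers v ⊔ Subgroup.zpowers z : Subgroup G) : Set G) := rfl
    rw [h3, h1, h2]
  · intro a ha
    rcases hc4 a ha with rfl | rfl | rfl | rfl
    · exact one_mul 1
    · exact h.v2
    · exact zz h
    · calc v * z * (v * z) = v * (z * v) * z := by group
        _ = v * (v * z) * z := by rw [← h.vz]
        _ = (v * v) * (z * z) := by group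
        _ = 1 := by rw [h.v2, zz h, mul_one]

variable [Finite G]

/-- an element of `Om` different from `X` contains a `T`-conjugate of `v` -/
theorem Om_elt {A : Subgroup G} (hA : A ∈ Om (Ws Q₁ Q₂ v) z) (hAX : A ≠ Q₁ ⊓ Q₂) :
    ∃ t ∈ Q₁ ⊔ Q₂, t * v * t⁻¹ ∈ A := by
  obtain ⟨h1, h2, h3, h4⟩ := hA
  have h5 : ¬ A ≤ Ys Q₁ Q₂ v := by
    intro hAY
    apply hAX
    refine Subgroup.eq_of_le_of_card_ge ?_ (by rw [h3, h.six.pair.inf])
    intro a ha
    rcases sq_Y h (hAY ha) with h6 | h6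
    · exact h6
    · rw [h4 a ha] at h6
      exact absurd h6.symm h.zne
  obtain ⟨a, ha, haY⟩ := SetLike.not_le_iff_exists.1 h5
  rcases (mem_W h).1 (h1 ha) with h6 | ⟨b, hb, rfl⟩
  · exact absurd h6 haY
  · obtain ⟨t, ht, htv⟩ := h.conj b (Y_le_T h hb) (h4 _ ha)
    exact ⟨t, ht, by rw [htv]; exact ha⟩

theorem cv_ne {t : G} (ht : t ∈ Q₁ ⊔ Q₂) : t * v * t⁻¹ ∉ Q₁ ⊔ Q₂ := by
  intro h1
  apply v_notMem h
  have h2 := Subgroup.mul_mem _ (Subgroup.mul_mem _ (Subgroup.inv_mem _ ht) h1) ht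
  have h3 : t⁻¹ * (t * v * t⁻¹) * t = v := by group
  rwa [h3] at h2

/-- two elements of `Om` with a common element outside `T` are equal -/
theorem Om_eq {A B : Subgroup G} (hA : A ∈ Om (Ws Q₁ Q₂ v) z) (hB : B ∈ Om (Ws Q₁ Q₂ v) z) {a : G}
    (haT : a ∉ Q₁ ⊔ Q₂) (haA : a ∈ A) (haB : a ∈ B) : A = B ∧ ∀ x ∈ A, x = 1 ∨ x = z ∨ x = a ∨ x = z * a := by
  obtain ⟨-, h2, h3, h4⟩ := hA
  obtain ⟨-, h2', h3', -⟩ := hB
  refine four_eq h3 h3' h.zne ?_ ?_ (zz h) h2 haA h2' haB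
  · rintro rfl
    exact haT (Subgroup.one_mem _)
  · rintro rfl
    exact haT (X_le_T h (zX h))

/-- elements of `W` act trivially -/
theorem W_triv {w : G} (hw : w ∈ Ws Q₁ Q₂ v) {A : Subgroup G} (hA : A ∈ Om (Ws Q₁ Q₂ v) z) : cj w A = A := by
  refine Subgroup.eq_of_le_of_card_ge ?_ (by rw [card_cj])
  intro a ha
  rw [mem_cj] at ha
  have h1 := hA.1 ha
  have h2 := comm_W h hw h1
  have h3 : w * (w⁻¹ * a * w) * w⁻¹ = a := by group
  rw [h3] at h2
  rcases h2 with h2 | h2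
  · rw [h2]; exact ha
  · rw [h2]; exact A.mul_mem hA.2.1 ha

/-- an element of `T` fixing a member of `Om` other than `X` lies in `Y` -/
theorem T_stab {t : G} (ht : t ∈ Q₁ ⊔ Q₂) {A : Subgroup G} (hA : A ∈ Om (Ws Q₁ Q₂ v) z) (hAX : A ≠ Q₁ ⊓ Q₂)
    (htA : cj t A = A) : t ∈ Ys Q₁ Q₂ v := by
  obtain ⟨r, hr, hrA⟩ := Om_elt h hA hAX
  set a := r * v * r⁻¹ with ha
  have haT : a ∉ Q₁ ⊔ Q₂ := cv_ne h hr
  have h1 : t * a * t⁻¹ ∈ A := by
    rw [← htA]
    exact conj_mem_cj.2 hrA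
  have h2 : t * a * t⁻¹ ∉ Q₁ ⊔ Q₂ := by
    have e : t * a * t⁻¹ = (t * r) * v * (t * r)⁻¹ := by rw [ha]; group
    rw [e]
    exact cv_ne h (Subgroup.mul_mem _ ht hr)
  -- centraliser of `a` in `T`
  have key : ∀ s ∈ Q₁ ⊔ Q₂, s * a * s⁻¹ = a → s ∈ Ys Q₁ Q₂ v := by
    intro s hs hsa
    have h3 : r⁻¹ * s * r ∈ Qs Q₁ Q₂ v := by
      rw [mem_Qs]
      refine ⟨Subgroup.mul_mem _ (Subgroup.mul_mem _ (Subgroup.inv_mem _ hr) hs) hr, ?_⟩
      rw [ha] at hsa
      have e1 : (r⁻¹ * s * r) * v = r⁻¹ * (s * (r * v * r⁻¹) * s⁻¹) * s * r := by group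
      rw [e1, hsa]
      group
    have h4 := le_Nm.1 (T_Y h) r hr _ (Q_le_Y h h3)
    have e2 : r * (r⁻¹ * s * r) * r⁻¹ = s := by group
    rwa [e2] at h4
  rcases (Om_eq h hA hA haT hrA hrA).2 _ h1 with h3 | h3 | h3 | h3
  · exact absurd (h3 ▸ Subgroup.one_mem _) h2
  · exact absurd (h3 ▸ X_le_T h (zX h)) h2
  · exact key t ht h3
  · obtain ⟨x, hx, hxz⟩ := exists_x0 h
    have hxi : x⁻¹ = x := inv_eq_of_mul_eq_one_left (xsq h hx)
    have hxT := X_le_T h hx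
    have hxa : x * a * x⁻¹ = z * a := by
      have e1 : x * v * x = z * v := by
        calc x * v * x = (v * v) * x * v * x := by rw [h.v2, one_mul]
          _ = v * (v * x * v * x) := by group
          _ = z * v := by rw [hxz, h.vz]
      have e2 : x * r = r * x := xT h hx hr
      have e3 : x * r⁻¹ = r⁻¹ * x := xT h hx (Subgroup.inv_mem _ hr)
      calc x * a * x⁻¹ = x * r * v * (r⁻¹ * x) := by rw [ha, hxi]; group
        _ = r * x * v * (x * r⁻¹) := by rw [e2, e3]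
        _ = r * (x * v * x) * r⁻¹ := by group
        _ = (r * z) * v * r⁻¹ := by rw [e1]; group
        _ = (z * r) * v * r⁻¹ := by rw [xT h (zX h) hr]
        _ = z * a := by rw [ha]; group
    have h4 : x⁻¹ * t ∈ Ys Q₁ Q₂ v := by
      refine key _ (Subgroup.mul_mem _ (Subgroup.inv_mem _ hxT) ht) ?_
      have e1 : x⁻¹ * t * a * (x⁻¹ * t)⁻¹ = x⁻¹ * (t * a * t⁻¹) * x := by group
      rw [e1, h3, ← hxa]
      group
    have h5 := Subgroup.mul_mem _ (X_le_Y h hx) h4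
    rwa [mul_inv_cancel_left] at h5

theorem card_T : Nat.card ↥(Q₁ ⊔ Q₂) = 64 := by
  have := h.six.pair.card_sup
  omega

/-- the final step: no element of `N(W)` moves `v` into `X` -/
theorem omega_false (P : Sylow 2 G) (hTP : Q₁ ⊔ Q₂ ≤ (P : Subgroup G)) (hvP : v ∈ (P : Subgroup G))
    (hPW : (P : Subgroup G) ≤ Nm (Ws Q₁ Q₂ v)) (hPX : (P : Subgroup G) ≤ Nm (Q₁ ⊓ Q₂))
    (hNP : ∀ P₁ : Subgroup G, Q₁ ⊔ Q₂ ≤ P₁ → v ∈ P₁ → P₁ ≤ P → Nm P₁ ≤ P)
    {y : G} (hyW : y ∈ Nm (Ws Q₁ Q₂ v)) (hy : y * v * y⁻¹ ∈ Q₁ ⊓ Q₂) : False := by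
  have hz : ∀ m ∈ Nm (Ws Q₁ Q₂ v), m * z * m⁻¹ = z := fun m hm => Nm_W_z h hm
  let W := Ws Q₁ Q₂ v
  let f := act W z hz
  let o : Om W z := ⟨Q₁ ⊓ Q₂, X_Om h⟩
  obtain ⟨V, hV, hvV⟩ := V_Om h
  have hVX : V ≠ Q₁ ⊓ Q₂ := by
    rintro rfl
    exact v_notMem h (X_le_T h hvV)
  have hTW := T_W h
  have hTX : ∀ t ∈ Q₁ ⊔ Q₂, cj t (Q₁ ⊓ Q₂) = Q₁ ⊓ Q₂ := fun t ht => cj_of_mem_Nm (hPX (hTP ht))
  have tr : ∀ A ∈ Om W z, ∀ B ∈ Om W z, A ≠ Q₁ ⊓ Q₂ → B ≠ Q₁ ⊓ Q₂ → ∃ t ∈ Q₁ ⊔ Q₂, cj t A = B := by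
    intro A hA B hB hAX hBX
    obtain ⟨r, hr, hrA⟩ := Om_elt h hA hAX
    obtain ⟨s, hs, hsB⟩ := Om_elt h hB hBX
    have ht : s * r⁻¹ ∈ Q₁ ⊔ Q₂ := Subgroup.mul_mem _ hs (Subgroup.inv_mem _ hr)
    refine ⟨s * r⁻¹, ht, ?_⟩
    have h1 : s * v * s⁻¹ ∈ cj (s * r⁻¹) A := by
      rw [mem_cj]
      have e : (s * r⁻¹)⁻¹ * (s * v * s⁻¹) * (s * r⁻¹) = r * v * r⁻¹ := by group
      rw [e]
      exact hrA
    exact (Om_eq h (Om_cj (hTW ht) (hz _ (hTW ht)) hA) hB (cv_ne h hs) h1 hsB).1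
  have h5 : Nat.card (Om W z) = 5 := by
    refine card_omega (T := ↥(Q₁ ⊔ Q₂)) (f.comp (Subgroup.inclusion hTW)) o ⟨V, hV⟩ ?_ ?_ ?_
      ((Ys Q₁ Q₂ v).subgroupOf (Q₁ ⊔ Q₂)) ?_ ?_
    · intro h1
      exact hVX (congrArg Subtype.val h1)
    · intro t
      exact Subtype.ext (hTX t t.2)
    · intro a ha
      obtain ⟨t, ht, h1⟩ := tr V hV a a.2 hVX (fun h1 => ha (Subtype.ext h1))
      exact ⟨⟨t, ht⟩, Subtype.ext h1⟩
    · intro t
      rw [Subgroup.mem_subgroupOf]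
      constructor
      · intro h1
        exact Subtype.ext (W_triv h (Y_le_W h h1) hV)
      · intro h1
        exact T_stab h t.2 hV hVX (congrArg Subtype.val h1)
    · have h1 := card_mul_relIndex (Y_le_T h)
      rw [card_Y h, card_T h] at h1
      have h2 : (Ys Q₁ Q₂ v).relIndex (Q₁ ⊔ Q₂) = 4 := by omega
      exact h2
  have hT2 : ∀ t ∈ Q₁ ⊔ Q₂, t * t ∈ W := fun t ht => Y_le_W h (X_le_Y h (h.six.pair.sq_mem ht))
  have hTP' : (Q₁ ⊔ Q₂).subgroupOf (Nm W) ≤ (P.subtype hPW : Subgroup ↥(Nm W)) := by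
    rw [Sylow.coe_subtype]
    intro t ht
    exact hTP (Subgroup.mem_subgroupOf.1 ht)
  refine five h5 f o ((Q₁ ⊔ Q₂).subgroupOf (Nm W)) ?_ ?_ ?_ ?_ ⟨y, hyW⟩ ?_ (P.subtype hPW) hTP' ?_ ?_
  · intro t ht
    exact Subtype.ext (hTX t (Subgroup.mem_subgroupOf.1 ht))
  · intro a b ha hb
    obtain ⟨t, ht, h1⟩ := tr a a.2 b b.2 (fun h1 => ha (Subtype.ext h1)) (fun h1 => hb (Subtype.ext h1))
    exact ⟨⟨t, hTW ht⟩, Subgroup.mem_subgroupOf.2 ht, Subtype.ext h1⟩
  · intro t ht a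
    apply Subtype.ext
    show cj (t : G) (cj (t : G) (a : Subgroup G)) = a
    rw [← cj_mul]
    exact W_triv h (hT2 t (Subgroup.mem_subgroupOf.1 ht)) a.2
  · intro t ht a ha h1
    have h2 := T_stab h (Subgroup.mem_subgroupOf.1 ht) a.2 (fun h3 => ha (Subtype.ext h3)) (congrArg Subtype.val h1)
    ext1 b
    exact Subtype.ext (W_triv h (Y_le_W h h2) b.2)
  · intro h1
    have h2 : cj y (Q₁ ⊓ Q₂) = Q₁ ⊓ Q₂ := congrArg Subtype.val h1
    rw [← h2, conj_mem_cj] at hy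
    exact v_notMem h (X_le_T h hy)
  · intro p hp
    have hp' : (p : G) ∈ (P : Subgroup G) := by
      have : p ∈ (P.subtype hPW : Subgroup ↥(Nm W)) := hp
      rw [Sylow.coe_subtype] at this
      exact Subgroup.mem_subgroupOf.1 this
    exact Subtype.ext (cj_of_mem_Nm (hPX hp'))
  · intro m hm
    rw [Sylow.coe_subtype] at hm ⊢
    rw [Subgroup.mem_subgroupOf]
    set R : Subgroup ↥(Nm W) := (P : Subgroup G).subgroupOf (Nm W) ⊓ ((Q₁ ⊔ Q₂).subgroupOf (Nm W) ⊔ f.ker) with hR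
    have hmem : ∀ {x : G}, x ∈ R.map (Nm W).subtype ↔ ∃ hx : x ∈ Nm W, (⟨x, hx⟩ : ↥(Nm W)) ∈ R := by
      intro x
      constructor
      · rintro ⟨u, hu, rfl⟩
        exact ⟨u.2, hu⟩
      · rintro ⟨hx, hx'⟩
        exact ⟨_, hx', rfl⟩
    refine hNP (R.map (Nm W).subtype) ?_ ?_ ?_ ?_
    · intro t ht
      rw [hmem]
      exact ⟨hTW ht, ⟨Subgroup.mem_subgroupOf.2 (hTP ht), Subgroup.mem_sup_left (Subgroup.mem_subgroupOf.2 ht)⟩⟩
    · rw [hmem]
      refine ⟨hPW hvP, ⟨Subgroup.mem_subgroupOf.2 hvP, Subgroup.mem_sup_right ?_⟩⟩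
      rw [MonoidHom.mem_ker]
      ext1 b
      exact Subtype.ext (W_triv h (v_W h) b.2)
    · rintro x hx
      obtain ⟨_, hx'⟩ := hmem.1 hx
      exact Subgroup.mem_subgroupOf.1 hx'.1
    · rw [Subgroup.mem_normalizer_iff] at hm ⊢
      intro x
      rw [hmem, hmem]
      constructor
      · rintro ⟨hx, hx'⟩
        exact ⟨(Nm W).mul_mem ((Nm W).mul_mem m.2 hx) ((Nm W).inv_mem m.2), (hm ⟨x, hx⟩).1 hx'⟩
      · rintro ⟨hx, hx'⟩
        have hxN : x ∈ Nm W := by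
          have e : x = (m : G)⁻¹ * (m * x * (m : G)⁻¹) * m := by group
          rw [e]
          exact (Nm W).mul_mem ((Nm W).mul_mem ((Nm W).inv_mem m.2) hx) m.2
        exact ⟨hxN, (hm ⟨x, hxN⟩).2 hx'⟩

end Two

end Cfsg.Agent.H302.St
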