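import Cfsg.Agent.H302.St.Syl
import Cfsg.Agent.H209.Five.BasicsTwo

/-!
# S3568, STEP A: the subgroups `Q = C_T(v)`, `Y = QX`, `F = Q⟨v⟩`, `W = Y⟨v⟩`
-/

set_option autoImplicit false
set_option linter.unusedSectionVars false

open Pointwise

namespace Cfsg.Agent.H302.St

open Cfsg.Agent.H399 Cfsg.Agent.H209.Five

variable {G : Type*} [Group G] {Q₁ Q₂ : Subgroup G} {τ v z : G}

/-- `C_T(v)` -/
def Qs (Q₁ Q₂ : Subgroup G) (v : G) : Subgroup G := (Q₁ ⊔ Q₂) ⊓ Subgroup.centralizer {v}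

/-- `Y = C_T(v) X` -/
def Ys (Q₁ Q₂ : Subgroup G) (v : G) : Subgroup G := Qs Q₁ Q₂ v ⊔ (Q₁ ⊓ Q₂)

/-- `F = C_T(v)⟨v⟩` -/
def Fs (Q₁ Q₂ : Subgroup G) (v : G) : Subgroup G := Qs Q₁ Q₂ v ⊔ Subgroup.zpowers v

/-- `W = Y⟨v⟩` -/
def Ws (Q₁ Q₂ : Subgroup G) (v : G) : Subgroup G := Ys Q₁ Q₂ v ⊔ Subgroup.zpowers v

theorem pair_le (a b : G) : Set.ncard ({a, b} : Set G) ≤ 2 := by
  have := Set.ncard_insert_le a {b}
  rw [Set.ncard_singleton] at this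
  exact this

theorem mem_Qs {t : G} : t ∈ Qs Q₁ Q₂ v ↔ t ∈ Q₁ ⊔ Q₂ ∧ v * t = t * v := by
  rw [Qs, Subgroup.mem_inf, Subgroup.mem_centralizer_singleton_iff]
  constructor
  · rintro ⟨h1, h2⟩
    exact ⟨h1, h2.symm⟩
  · rintro ⟨h1, h2⟩
    exact ⟨h1, h2.symm⟩

/-- membership in `K ⊔ ⟨c⟩`, for `c` an involution normalising `K` -/
theorem mem_sup_zpowers {K : Subgroup G} {c : G} (hc : c * c = 1) (hK : c ∈ Nm K) {t : G} :
    t ∈ K ⊔ Subgroup.zpowers c ↔ t ∈ K ∨ ∃ a ∈ K, t = a * c := by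
  rw [sup_comm, mul_mem_sup_iff ((Subgroup.zpowers_le).2 hK)]
  have hcz : ∀ x ∈ Subgroup.zpowers c, x = 1 ∨ x = c := by
    intro x hx
    obtain ⟨n, rfl⟩ := Subgroup.mem_zpowers_iff.1 hx
    rcases Int.even_or_odd' n with ⟨k, rfl | rfl⟩
    · left
      rw [zpow_mul, zpow_two, hc, one_zpow]
    · right
      rw [zpow_add, zpow_mul, zpow_two, hc, one_zpow, one_mul, zpow_one]
  constructor
  · rintro ⟨x, hx, y, hy, rfl⟩
    rcases hcz x hx with rfl | rfl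
    · left
      rwa [one_mul]
    · right
      refine ⟨x * y * x⁻¹, le_Nm.1 ((Subgroup.zpowers_le).2 hK) x (Subgroup.mem_zpowers x) y hy, by group⟩
  · rintro (ht | ⟨a, ha, rfl⟩)
    · exact ⟨1, one_mem _, t, ht, one_mul t⟩
    · have hci : c⁻¹ = c := inv_eq_of_mul_eq_one_left hc
      refine ⟨c, Subgroup.mem_zpowers c, c⁻¹ * a * c, ?_, by group⟩
      have := le_Nm.1 ((Subgroup.zpowers_le).2 hK) c⁻¹ (Subgroup.inv_mem _ (Subgroup.mem_zpowers c)) a ha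
      rwa [inv_inv] at this

namespace Two

variable (h : TypeTwo Q₁ Q₂ τ v z)

include h

theorem vinv : v⁻¹ = v := inv_eq_of_mul_eq_one_left h.v2

theorem v_mem₁ {a : G} (ha : a ∈ Q₁) : v * a * v ∈ Q₂ := by
  have := conj_mem_cj (x := v) (X := Q₁).2 ha
  rwa [h.swap, vinv h] at this

theorem v_mem₂ {a : G} (ha : a ∈ Q₂) : v * a * v ∈ Q₁ := by
  have := conj_mem_cj (x := v) (X := Q₂).2 ha
  rwa [h.swap', vinv h] at this

theorem v_T : v ∈ Nm (Q₁ ⊔ Q₂) := by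
  rw [mem_Nm, cj_sup, h.swap, h.swap', sup_comm]

theorem v_X : v ∈ Nm (Q₁ ⊓ Q₂) := by
  rw [mem_Nm, cj_inf, h.swap, h.swap', inf_comm]

theorem vTv {t : G} (ht : t ∈ Q₁ ⊔ Q₂) : v * t * v ∈ Q₁ ⊔ Q₂ := by
  have := conj_mem_cj (x := v) (X := Q₁ ⊔ Q₂).2 ht
  rwa [cj_of_mem_Nm (v_T h), vinv h] at this

theorem vXv {t : G} (ht : t ∈ Q₁ ⊓ Q₂) : v * t * v ∈ Q₁ ⊓ Q₂ := by
  have := conj_mem_cj (x := v) (X := Q₁ ⊓ Q₂).2 ht
  rwa [cj_of_mem_Nm (v_X h), vinv h] at this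

theorem zX : z ∈ Q₁ ⊓ Q₂ := ⟨h.z₁, h.z₂⟩

theorem X_le_T : Q₁ ⊓ Q₂ ≤ Q₁ ⊔ Q₂ := inf_le_left.trans le_sup_left

theorem xsq {x : G} (hx : x ∈ Q₁ ⊓ Q₂) : x * x = 1 := h.six.pair.ea₁.sq x hx.1

theorem zz : z * z = 1 := xsq h (zX h)

theorem xT {x t : G} (hx : x ∈ Q₁ ⊓ Q₂) (ht : t ∈ Q₁ ⊔ Q₂) : x * t = t * x := h.six.pair.comm_inf hx ht

theorem vzv : v * z * v = z := by rw [h.vz, mul_assoc, h.v2, mul_one]

theorem exists_x0 [Finite G] : ∃ x ∈ Q₁ ⊓ Q₂, v * x * v * x = z := by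
  by_contra hcon
  push Not at hcon
  have h1 : ∀ x ∈ Q₁ ⊓ Q₂, x = 1 ∨ x = z := by
    intro x hx
    refine h.X x hx ?_
    rcases h.Xcomm x hx with h2 | h2
    · have h3 : v * x * v = x⁻¹ := eq_inv_of_mul_eq_one_left h2
      have h4 : x⁻¹ = x := inv_eq_of_mul_eq_one_left (xsq h hx)
      rw [h4] at h3
      calc v * x = v * x * v * v := by rw [mul_assoc (v * x), h.v2, mul_one]
        _ = x * v := by rw [h3]
    · exact absurd h2 (hcon x hx)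
  have h2 : ((Q₁ ⊓ Q₂ : Subgroup G) : Set G) ⊆ {1, z} := fun x hx => h1 x hx
  have h3 : Nat.card ↥(Q₁ ⊓ Q₂) ≤ 2 := by
    have h4 : Set.ncard ((Q₁ ⊓ Q₂ : Subgroup G) : Set G) ≤ Set.ncard ({1, z} : Set G) :=
      Set.ncard_le_ncard h2 (Set.toFinite _)
    exact h4.trans (pair_le 1 z)
  rw [h.six.pair.inf] at h3
  omega

theorem z_Q : z ∈ Qs Q₁ Q₂ v := mem_Qs.2 ⟨X_le_T h (zX h), h.vz⟩

theorem Q_le_T : Qs Q₁ Q₂ v ≤ Q₁ ⊔ Q₂ := inf_le_left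

theorem Y_le_T : Ys Q₁ Q₂ v ≤ Q₁ ⊔ Q₂ := sup_le (Q_le_T h) (X_le_T h)

theorem v_Q : v ∈ Nm (Qs Q₁ Q₂ v) := by
  refine Subgroup.mem_normalizer_iff.2 fun t => ?_
  rw [mem_Qs, mem_Qs, vinv h]
  constructor
  · rintro ⟨h1, h2⟩
    have : v * t * v = t := by rw [h2, mul_assoc, h.v2, mul_one]
    rw [this]
    exact ⟨h1, h2⟩
  · rintro ⟨h1, h2⟩
    have h3 : v * (v * t * v) * v = t := by
      calc v * (v * t * v) * v = (v * v) * t * (v * v) := by group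
        _ = t := by rw [h.v2, one_mul, mul_one]
    refine ⟨by rw [← h3]; exact vTv h h1, ?_⟩
    calc v * t = v * t * (v * v) := by rw [h.v2, mul_one]
      _ = v * t * v * v := by group
      _ = (v * v) * (v * t * v * v) := by rw [h.v2, one_mul]
      _ = v * (v * (v * t * v)) * v := by group
      _ = v * (v * t * v * v) * v := by rw [h2]
      _ = (v * v) * t * (v * v) * v := by group
      _ = t * v := by rw [h.v2, one_mul, mul_one]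

theorem mem_Y {t : G} : t ∈ Ys Q₁ Q₂ v ↔ ∃ a ∈ Qs Q₁ Q₂ v, ∃ x ∈ Q₁ ⊓ Q₂, t = a * x := by
  rw [Ys, mul_mem_sup_iff (le_Nm.2 ?_)]
  · constructor
    · rintro ⟨a, ha, x, hx, rfl⟩
      exact ⟨a, ha, x, hx, rfl⟩
    · rintro ⟨a, ha, x, hx, rfl⟩
      exact ⟨a, ha, x, hx, rfl⟩
  · intro a ha x hx
    rw [← xT h hx (Q_le_T h ha), mul_assoc, mul_inv_cancel, mul_one]
    exact hx

theorem v_Y : v ∈ Nm (Ys Q₁ Q₂ v) := by
  rw [mem_Nm, Ys, cj_sup, cj_of_mem_Nm (v_Q h), cj_of_mem_Nm (v_X h)]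

theorem mem_F {t : G} : t ∈ Fs Q₁ Q₂ v ↔ t ∈ Qs Q₁ Q₂ v ∨ ∃ a ∈ Qs Q₁ Q₂ v, t = a * v :=
  mem_sup_zpowers h.v2 (v_Q h)

theorem mem_W {t : G} : t ∈ Ws Q₁ Q₂ v ↔ t ∈ Ys Q₁ Q₂ v ∨ ∃ a ∈ Ys Q₁ Q₂ v, t = a * v :=
  mem_sup_zpowers h.v2 (v_Y h)

theorem v_notMem : v ∉ Q₁ ⊔ Q₂ := by
  intro hv
  have h1 : Q₁ ⊔ Q₂ ≤ Nm Q₁ := sup_le (self_le_Nm _) h.six.pair.nm₁
  have h2 := cj_of_mem_Nm (h1 hv)
  rw [h.swap] at h2
  have h3 := h.six.pair.inf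
  rw [h2, inf_idem, h.six.pair.ea₁.card] at h3
  omega

theorem sq_Q {a : G} [Finite G] (ha : a ∈ Qs Q₁ Q₂ v) : a = 1 ∨ a = z ∨ a * a = z := by
  obtain ⟨h1, h2⟩ := mem_Qs.1 ha
  by_cases hX : a ∈ Q₁ ⊓ Q₂
  · rcases h.X a hX h2 with h3 | h3
    · exact Or.inl h3
    · exact Or.inr (Or.inl h3)
  · exact Or.inr (Or.inr (h.sq a h1 h2 hX))

theorem exists_sq [Finite G] : ∃ a ∈ Qs Q₁ Q₂ v, a * a = z := by
  by_contra hcon
  push Not at hcon
  have h2 : ((Qs Q₁ Q₂ v : Subgroup G) : Set G) ⊆ {1, z} := by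
    intro a ha
    rcases sq_Q h ha with h3 | h3 | h3
    · exact Or.inl h3
    · exact Or.inr h3
    · exact absurd h3 (hcon a ha)
  have h3 : Nat.card ↥(Qs Q₁ Q₂ v) ≤ 2 :=
    (Set.ncard_le_ncard h2 (Set.toFinite _)).trans (pair_le 1 z)
  have h4 : Nat.card ↥(Qs Q₁ Q₂ v) = 8 := h.card
  omega

/-- the elements of `F` -/
theorem sq_F [Finite G] {t : G} (ht : t ∈ Fs Q₁ Q₂ v) : (t = 1 ∨ t = z ∨ t = v ∨ t = z * v) ∨ t * t = z := by
  rcases (mem_F h).1 ht with h1 | ⟨a, ha, rfl⟩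
  · rcases sq_Q h h1 with h2 | h2 | h2
    · exact Or.inl (Or.inl h2)
    · exact Or.inl (Or.inr (Or.inl h2))
    · exact Or.inr h2
  · rcases sq_Q h ha with rfl | rfl | h2
    · exact Or.inl (Or.inr (Or.inr (Or.inl (one_mul _))))
    · exact Or.inl (Or.inr (Or.inr (Or.inr rfl)))
    · right
      have h3 := (mem_Qs.1 ha).2
      calc a * v * (a * v) = a * (v * a) * v := by group
        _ = a * (a * v) * v := by rw [h3]
        _ = (a * a) * (v * v) := by group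
        _ = z := by rw [h2, h.v2, mul_one]

/-- squares of elements of `F` -/
theorem sq_F' [Finite G] {t : G} (ht : t ∈ Fs Q₁ Q₂ v) : t * t = 1 ∨ t * t = z := by
  rcases sq_F h ht with (rfl | rfl | rfl | rfl) | h1
  · left; simp
  · left; exact zz h
  · left; exact h.v2
  · left
    calc z * v * (z * v) = z * (v * z) * v := by group
      _ = z * (z * v) * v := by rw [h.vz]
      _ = (z * z) * (v * v) := by group
      _ = 1 := by rw [zz h, h.v2, mul_one]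
  · exact Or.inr h1

/-- the elements of `Y` -/
theorem sq_Y [Finite G] {t : G} (ht : t ∈ Ys Q₁ Q₂ v) : t ∈ Q₁ ⊓ Q₂ ∨ t * t = z := by
  obtain ⟨a, ha, x, hx, rfl⟩ := (mem_Y h).1 ht
  rcases sq_Q h ha with rfl | rfl | h2
  · left
    rwa [one_mul]
  · left
    exact (Q₁ ⊓ Q₂).mul_mem (zX h) hx
  · right
    have h3 := xT h hx (Q_le_T h ha)
    calc a * x * (a * x) = a * (x * a) * x := by group
      _ = a * (a * x) * x := by rw [h3]
      _ = (a * a) * (x * x) := by group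
      _ = z := by rw [h2, xsq h hx, mul_one]

theorem X_le_Y : Q₁ ⊓ Q₂ ≤ Ys Q₁ Q₂ v := le_sup_right

theorem v_W : v ∈ Ws Q₁ Q₂ v := Subgroup.mem_sup_right (Subgroup.mem_zpowers v)

theorem v_F : v ∈ Fs Q₁ Q₂ v := Subgroup.mem_sup_right (Subgroup.mem_zpowers v)

theorem Y_le_W : Ys Q₁ Q₂ v ≤ Ws Q₁ Q₂ v := le_sup_left

theorem Q_le_Y : Qs Q₁ Q₂ v ≤ Ys Q₁ Q₂ v := le_sup_left

theorem Q_le_F : Qs Q₁ Q₂ v ≤ Fs Q₁ Q₂ v := le_sup_left

theorem z_Y : z ∈ Ys Q₁ Q₂ v := X_le_Y h (zX h)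

/-- products `q q^v x` lie in `Y` -/
theorem mem_Y_of [Finite G] {q x : G} (hq : q ∈ Q₁) (hx : x ∈ Q₁ ⊓ Q₂) : q * (v * q * v) * x ∈ Ys Q₁ Q₂ v := by
  refine Subgroup.mul_mem _ ?_ (X_le_Y h hx)
  by_cases hq2 : q ∈ Q₂
  · exact X_le_Y h ((Q₁ ⊓ Q₂).mul_mem ⟨hq, hq2⟩ (vXv h ⟨hq, hq2⟩))
  · obtain ⟨y, hy, hyz⟩ := exists_x0 h
    have h1 := h.pair q hq hq2
    have hqT : q ∈ Q₁ ⊔ Q₂ := Subgroup.mem_sup_left hq
    have hqv : v * q * v ∈ Q₁ ⊔ Q₂ := vTv h hqT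
    have hqq : q * q = 1 := h.six.pair.ea₁.sq q hq
    have hvv : (v * q * v) * (v * q * v) = 1 := by
      calc (v * q * v) * (v * q * v) = v * q * (v * v) * q * v := by group
        _ = v * (q * q) * v := by rw [h.v2]; group
        _ = 1 := by rw [hqq, mul_one, h.v2]
    -- `(vqv) q = z q (vqv)`
    have h2 : (v * q * v) * q = z * (q * (v * q * v)) := by
      calc (v * q * v) * q = (q * q) * ((v * q * v) * q) * ((v * q * v) * (v * q * v)) := by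
            rw [hqq, hvv, one_mul, mul_one]
        _ = q * (q * (v * q * v) * q * (v * q * v)) * (v * q * v) := by group
        _ = q * z * (v * q * v) := by rw [h1]
        _ = z * (q * (v * q * v)) := by rw [← xT h (zX h) hqT, mul_assoc]
    -- `v y v = z y`
    have h3 : v * y * v = z * y := by
      calc v * y * v = v * y * v * (y * y) := by rw [xsq h hy, mul_one]
        _ = (v * y * v * y) * y := by group
        _ = z * y := by rw [hyz]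
    rw [mem_Y h]
    refine ⟨q * (v * q * v) * y, mem_Qs.2 ⟨?_, ?_⟩, y, hy, ?_⟩
    · exact Subgroup.mul_mem _ (Subgroup.mul_mem _ hqT hqv) (X_le_T h hy)
    · calc v * (q * (v * q * v) * y) = (v * q * v) * ((v * v) * q) * (v * y) := by rw [h.v2]; group
        _ = ((v * q * v) * q) * (v * y * v) * v := by
            rw [h.v2, one_mul]
            calc v * q * v * q * (v * y) = v * q * v * q * (v * y) * (v * v) := by rw [h.v2, mul_one]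
              _ = v * q * v * q * (v * y * v) * v := by group
        _ = (z * (q * (v * q * v))) * (z * y) * v := by rw [h2, h3]
        _ = (z * z) * (q * (v * q * v)) * y * v := by
            have := xT h (zX h) (Subgroup.mul_mem _ hqT hqv)
            calc z * (q * (v * q * v)) * (z * y) * v = z * ((q * (v * q * v)) * z) * y * v := by group
              _ = z * (z * (q * (v * q * v))) * y * v := by rw [this]
              _ = _ := by group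
        _ = q * (v * q * v) * y * v := by rw [zz h, one_mul]
    · rw [mul_assoc _ y y, xsq h hy, mul_one]

theorem Y_form [Finite G] {t : G} (ht : t ∈ Ys Q₁ Q₂ v) : ∃ q ∈ Q₁, ∃ x ∈ Q₁ ⊓ Q₂, t = q * (v * q * v) * x := by
  obtain ⟨a, ha, x, hx, rfl⟩ := (mem_Y h).1 ht
  obtain ⟨q, hq, y, hy, rfl⟩ := h.form a (mem_Qs.1 ha).1 (mem_Qs.1 ha).2
  exact ⟨q, hq, y * x, (Q₁ ⊓ Q₂).mul_mem hy hx, by group⟩

theorem T_Y : Q₁ ⊔ Q₂ ≤ Nm (Ys Q₁ Q₂ v) := by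
  rw [le_Nm]
  intro t ht b hb
  have h1 := h.six.pair.comm_mem ht (Y_le_T h hb)
  have h2 : t * b * t⁻¹ = (t * b * t⁻¹ * b⁻¹) * b := by group
  rw [h2]
  exact Subgroup.mul_mem _ (X_le_Y h h1) hb

end Two

end Cfsg.Agent.H302.St
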