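import Cfsg.Agent.H399.Base

/-!
# S3568, STEP A: Sylow arguments inside a subgroup, and groups acting on five points
-/

set_option autoImplicit false

open Pointwise

namespace Cfsg.Agent.H302.St

open Cfsg.Agent.H399

variable {G : Type*} [Group G]

/-- conjugacy of 2-subgroups into a Sylow 2-subgroup `A` of a subgroup `K` -/
theorem conj_le [Finite G] {K A R : Subgroup G} (_hAK : A ≤ K) (hA : IsPGroup 2 A) (hi : ¬ 2 ∣ A.relIndex K)
    (hRK : R ≤ K) (hR : IsPGroup 2 R) : ∃ k ∈ K, cj k R ≤ A := by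
  have hA' : IsPGroup 2 (A.subgroupOf K) := hA.comap_subtype
  have hR' : IsPGroup 2 (R.subgroupOf K) := hR.comap_subtype
  obtain ⟨B, hB⟩ := hR'.exists_le_sylow
  obtain ⟨k, hk⟩ := MulAction.exists_smul_eq ↥K B (hA'.toSylow hi)
  refine ⟨k, k.2, ?_⟩
  intro x hx
  rw [mem_cj] at hx
  have hxK : x ∈ K := by
    have h1 : x = (k : G) * ((k : G)⁻¹ * x * k) * (k : G)⁻¹ := by group
    rw [h1]
    exact K.mul_mem (K.mul_mem k.2 (hRK hx)) (K.inv_mem k.2)
  have h2 : (⟨(k : G)⁻¹ * x * k, hRK hx⟩ : K) ∈ (B : Subgroup K) := hB (Subgroup.mem_subgroupOf.2 hx)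
  have h3 : (⟨x, hxK⟩ : K) ∈ ((k • B : Sylow 2 K) : Subgroup K) := by
    rw [Sylow.coe_subgroup_smul, mem_cj]
    convert h2 using 1
    apply Subtype.ext
    simp
  rw [hk] at h3
  exact Subgroup.mem_subgroupOf.1 h3

/-- a Sylow 2-subgroup of `G` has odd index in each overgroup -/
theorem sylow_relIndex [Finite G] (P : Sylow 2 G) {K : Subgroup G} (hPK : (P : Subgroup G) ≤ K) :
    ¬ 2 ∣ (P : Subgroup G).relIndex K := by
  intro h
  have h1 : (P : Subgroup G).relIndex K * K.index = (P : Subgroup G).index := Subgroup.relIndex_mul_index hPK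
  exact P.not_dvd_index (h1 ▸ dvd_mul_of_dvd_left h _)

theorem conj_le_sylow [Finite G] (P : Sylow 2 G) {K R : Subgroup G} (hPK : (P : Subgroup G) ≤ K)
    (hRK : R ≤ K) (hR : IsPGroup 2 R) : ∃ k ∈ K, cj k R ≤ P :=
  conj_le hPK P.isPGroup' (sylow_relIndex P hPK) hRK hR

/-- the Frattini argument inside `S` -/
theorem frattini_mem [Finite G] (P : Sylow 2 G) {S N : Subgroup G} (hPS : (P : Subgroup G) ≤ S)
    (hSN : S ≤ Nm N) {s : G} (hs : s ∈ S) :
    ∃ n ∈ N, ∃ k ∈ Nm ((P : Subgroup G) ⊓ N), s = n * k := by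
  have hodd : ¬ 2 ∣ ((P : Subgroup G) ⊓ N).relIndex N := by
    rw [Subgroup.inf_relIndex_right, ← relIndex_sup_of_right (hPS.trans hSN)]
    exact sylow_relIndex P le_sup_left
  have hp : IsPGroup 2 ((P : Subgroup G) ⊓ N : Subgroup G) := P.isPGroup'.to_le inf_le_left
  obtain ⟨n, hn, h1⟩ := conj_le (R := cj s ((P : Subgroup G) ⊓ N)) inf_le_right hp hodd
    (by
      rw [cj_inf, cj_of_mem_Nm (hSN hs)]
      exact inf_le_right) (isPGroup_cj s hp)
  have h2 : cj (n * s) ((P : Subgroup G) ⊓ N) = (P : Subgroup G) ⊓ N := by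
    rw [cj_mul]
    exact Subgroup.eq_of_le_of_card_ge h1 (by rw [card_cj, card_cj])
  exact ⟨n⁻¹, N.inv_mem hn, n * s, mem_Nm.2 h2, by group⟩

/-- a 2-subgroup `A` of `K` with `|P|` dividing `|K|` lies in a `G`-conjugate of `P` inside `K` -/
theorem exists_big [Finite G] (P : Sylow 2 G) {K A : Subgroup G} (hAK : A ≤ K) (hA : IsPGroup 2 A)
    (hd : Nat.card (P : Subgroup G) ∣ Nat.card K) : ∃ y : G, cj y A ≤ P ∧ (P : Subgroup G) ≤ cj y K := by
  obtain ⟨B, hB⟩ := (hA.comap_subtype (K := K)).exists_le_sylow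
  have hBc : Nat.card ((B : Subgroup K).map K.subtype) = Nat.card (B : Subgroup K) :=
    (Nat.card_congr ((B : Subgroup K).equivMapOfInjective K.subtype K.subtype_injective).toEquiv).symm
  have hBp : IsPGroup 2 ((B : Subgroup K).map K.subtype) := B.isPGroup'.map _
  obtain ⟨R, hR⟩ := hBp.exists_le_sylow
  have h1 : (R : Subgroup G) = (B : Subgroup K).map K.subtype := by
    refine (Subgroup.eq_of_le_of_card_ge hR ?_).symm
    rw [hBc]
    have h2 : Nat.card (R : Subgroup G) = Nat.card (P : Subgroup G) := Nat.card_congr (Sylow.equiv R P).toEquiv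
    rw [h2]
    have h3 : Nat.card (P : Subgroup G) ∣ Nat.card (B : Subgroup K) := by
      rw [P.card_eq_multiplicity] at hd ⊢
      exact B.pow_dvd_card_of_pow_dvd_card hd
    exact Nat.le_of_dvd Nat.card_pos h3
  obtain ⟨y, hy⟩ := MulAction.exists_smul_eq G R P
  have hy' : cj y (R : Subgroup G) = P := by
    rw [← hy]
    rfl
  refine ⟨y, ?_, ?_⟩
  · rw [← hy', h1]
    refine cj_le_cj.2 ?_
    intro a ha
    exact Subgroup.mem_map.2 ⟨⟨a, hAK ha⟩, hB (Subgroup.mem_subgroupOf.2 ha), rfl⟩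
  · rw [← hy', h1]
    refine cj_le_cj.2 ?_
    rintro _ ⟨b, _, rfl⟩
    exact b.2

section Five

theorem five_cases {Ω : Type*} (h5 : Nat.card Ω = 5) {o a e c d : Ω} (h1 : o ≠ a) (h2 : o ≠ e) (h3 : o ≠ c)
    (h4 : o ≠ d) (h5' : a ≠ e) (h6 : a ≠ c) (h7 : a ≠ d) (h8 : e ≠ c) (h9 : e ≠ d) (h10 : c ≠ d) (x : Ω) :
    x = o ∨ x = a ∨ x = e ∨ x = c ∨ x = d := by
  classical
  have : Finite Ω := Nat.finite_of_card_ne_zero (by rw [h5]; norm_num)
  have := Fintype.ofFinite Ω
  have hc : ({o, a, e, c, d} : Finset Ω).card = 5 := by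
    rw [Finset.card_insert_of_notMem (by simp [h1, h2, h3, h4]), Finset.card_insert_of_notMem (by simp [h5', h6, h7]),
      Finset.card_insert_of_notMem (by simp [h8, h9]), Finset.card_insert_of_notMem (by simp [h10]),
      Finset.card_singleton]
  have hu : ({o, a, e, c, d} : Finset Ω) = Finset.univ := by
    rw [← Finset.card_eq_iff_eq_univ, hc, ← Nat.card_eq_fintype_card, h5]
  have := Finset.mem_univ x
  rw [← hu] at this
  simpa using this

theorem exists_notMem {Ω : Type*} (h5 : Nat.card Ω = 5) (s : Finset Ω) (hs : s.card ≤ 4) : ∃ x, x ∉ s := by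
  classical
  have : Finite Ω := Nat.finite_of_card_ne_zero (by rw [h5]; norm_num)
  have := Fintype.ofFinite Ω
  by_contra hcon
  push Not at hcon
  have : s = Finset.univ := by
    ext x
    simp [hcon x]
  rw [this, Finset.card_univ, ← Nat.card_eq_fintype_card, h5] at hs
  omega

variable {M Ω : Type*} [Group M] [Finite M]

theorem five (h5 : Nat.card Ω = 5) (f : M →* Equiv.Perm Ω) (o : Ω) (T : Subgroup M)
    (hTo : ∀ t ∈ T, f t o = o) (hTt : ∀ a b, a ≠ o → b ≠ o → ∃ t ∈ T, f t a = b)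
    (hT2 : ∀ t ∈ T, ∀ a, f t (f t a) = a) (hTr : ∀ t ∈ T, ∀ a, a ≠ o → f t a = a → f t = 1)
    (y : M) (hy : f y o ≠ o) (P : Sylow 2 M) (hTP : T ≤ P) (hPo : ∀ p ∈ P, f p o = o)
    (hNP : Nm ((P : Subgroup M) ⊓ (T ⊔ f.ker)) ≤ P) : False := by
  classical
  -- membership in `T 𝒦`
  have hmemN : ∀ m : M, m ∈ T ⊔ f.ker ↔ ∃ t ∈ T, f m = f t := by
    intro m
    rw [Subgroup.mem_sup_of_normal_right]
    constructor
    · rintro ⟨t, ht, k, hk, rfl⟩
      refine ⟨t, ht, ?_⟩
      rw [map_mul, MonoidHom.mem_ker.1 hk, mul_one]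
    · rintro ⟨t, ht, h⟩
      refine ⟨t, ht, t⁻¹ * m, ?_, by group⟩
      rw [MonoidHom.mem_ker, map_mul, map_inv, h, inv_mul_cancel]
  have hne : ∀ (m : M) {a b : Ω}, a ≠ b → f m a ≠ f m b := fun m a b h h' => h ((f m).injective h')
  have hap : ∀ (m n : M) (a : Ω), f (m * n) a = f m (f n a) := fun m n a => by rw [map_mul]; rfl
  have hinv : ∀ (m : M) (a : Ω), f m (f m⁻¹ a) = a := fun m a => by
    rw [← hap, mul_inv_cancel, map_one]; rfl
  have hinv' : ∀ (m : M) (a : Ω), f m⁻¹ (f m a) = a := fun m a => by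
    rw [← hap, inv_mul_cancel, map_one]; rfl
  -- two involutions fixing `o`, fixed point free elsewhere, agreeing at one point
  have agree : ∀ p q : Equiv.Perm Ω, p o = o → q o = o → (∀ a, p (p a) = a) → (∀ a, q (q a) = a) →
      (∀ a, a ≠ o → p a ≠ a) → (∀ a, a ≠ o → q a ≠ a) → ∀ b, b ≠ o → p b = q b → p = q := by
    intro p q hpo hqo hp2 hq2 hpf hqf b hb hpq
    have hpi : ∀ {a b : Ω}, a ≠ b → p a ≠ p b := fun h h' => h (p.injective h')
    have hqi : ∀ {a b : Ω}, a ≠ b → q a ≠ q b := fun h h' => h (q.injective h')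
    ext x
    by_cases hxo : x = o
    · rw [hxo, hpo, hqo]
    by_cases hxb : x = b
    · rw [hxb, hpq]
    by_cases hxpb : x = p b
    · rw [hxpb, hp2, hpq, hq2]
    -- now `o, b, p b, x, p x` are the five points
    have h1 : o ≠ b := hb.symm
    have h2 : o ≠ p b := by
      intro h
      have := congrArg p h
      rw [hpo, hp2] at this
      exact h1 this
    have h3 : o ≠ x := fun h => hxo h.symm
    have h4 : o ≠ p x := by
      intro h
      have := congrArg p h
      rw [hpo, hp2] at this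
      exact h3 this
    have h5' : b ≠ p b := (hpf b hb).symm
    have h6 : b ≠ x := fun h => hxb h.symm
    have h7 : b ≠ p x := by
      intro h
      have := congrArg p h
      rw [hp2] at this
      exact hxpb this.symm
    have h8 : p b ≠ x := fun h => hxpb h.symm
    have h9 : p b ≠ p x := hpi h6
    have h10 : x ≠ p x := (hpf x hxo).symm
    rcases five_cases h5 h1 h2 h3 h4 h5' h6 h7 h8 h9 h10 (q x) with h | h | h | h | h
    · exact absurd (by rw [← hq2 x, h, hqo]) hxo
    · exact absurd (by rw [← hq2 x, h, hpq]) hxpb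
    · exact absurd (by rw [← hq2 x, h, hpq, hq2]) hxb
    · exact absurd h (hqf x hxo)
    · exact h.symm
  have hTf : ∀ t ∈ T, f t ≠ 1 → ∀ a, a ≠ o → f t a ≠ a := fun t ht h a ha h' => h (hTr t ht a ha h')
  -- the stabiliser normalises `T 𝒦`
  let S : Subgroup M :=
    { carrier := {m | f m o = o}
      mul_mem' := by
        intro a b ha hb
        simp only [Set.mem_ofPred_eq] at *
        rw [hap, hb, ha]
      one_mem' := by simp
      inv_mem' := by
        intro a ha
        simp only [Set.mem_ofPred_eq] at *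
        have := hinv' a o
        rwa [ha] at this }
  have hS : ∀ m, m ∈ S ↔ f m o = o := fun m => Iff.rfl
  have hSN : S ≤ Nm (T ⊔ f.ker) := by
    rw [le_Nm]
    intro h hh m hm
    obtain ⟨t, ht, hmt⟩ := (hmemN m).1 hm
    rw [hmemN]
    have hf : f (h * m * h⁻¹) = f (h * t * h⁻¹) := by rw [map_mul, map_mul, map_mul, map_mul, hmt]
    rw [hf]
    by_cases h1 : f t = 1
    · refine ⟨1, T.one_mem, ?_⟩
      rw [map_mul, map_mul, h1, mul_one, ← map_mul, mul_inv_cancel]
    · have hho : f h⁻¹ o = o := (hS _).1 (S.inv_mem hh)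
      have hpo : f (h * t * h⁻¹) o = o := by rw [hap, hap, hho, hTo t ht, (hS _).1 hh]
      have hp2 : ∀ a, f (h * t * h⁻¹) (f (h * t * h⁻¹) a) = a := by
        intro a
        rw [hap, hap, hap, hap, hinv', hT2 t ht, hinv]
      have hpf : ∀ a, a ≠ o → f (h * t * h⁻¹) a ≠ a := by
        intro a ha h2
        refine hTf t ht h1 (f h⁻¹ a) ?_ ?_
        · intro h3
          have := congrArg (f h) h3
          rw [hinv, (hS _).1 hh] at this
          exact ha this
        · rw [hap, hap] at h2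
          have := congrArg (f h⁻¹) h2
          rwa [hinv'] at this
      obtain ⟨b, hb⟩ := exists_notMem h5 {o} (by simp)
      have hbo : b ≠ o := by simpa using hb
      have hpbo : f (h * t * h⁻¹) b ≠ o := by
        intro h3
        have := congrArg (f (h * t * h⁻¹)) h3
        rw [hp2, hpo] at this
        exact hbo this
      obtain ⟨t', ht', htb⟩ := hTt b _ hbo hpbo
      refine ⟨t', ht', agree _ _ hpo (hTo t' ht') hp2 (hT2 t' ht') hpf (hTf t' ht' ?_) b hbo htb.symm⟩
      intro h3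
      rw [h3] at htb
      exact hpf b hbo htb.symm
  have hPS : (P : Subgroup M) ≤ S := fun p hp => hPo p hp
  -- elements of the stabiliser act as 2-elements
  have h2el : ∀ s ∈ S, ∃ n : ℕ, f s ^ 2 ^ n = 1 := by
    intro s hs
    obtain ⟨n, hn, k, hk, rfl⟩ := frattini_mem P hPS hSN hs
    obtain ⟨t, ht, hnt⟩ := (hmemN n).1 hn
    have hkP : k ∈ (P : Subgroup M) := hNP hk
    have htk : t * k ∈ (P : Subgroup M) := (P : Subgroup M).mul_mem (hTP ht) hkP
    obtain ⟨n', hn'⟩ := P.isPGroup' ⟨t * k, htk⟩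
    refine ⟨n', ?_⟩
    have h1 : (t * k) ^ 2 ^ n' = 1 := congrArg Subtype.val hn'
    rw [map_mul, hnt, ← map_mul, ← map_pow, h1, map_one]
  -- a 3-cycle
  obtain ⟨e, he⟩ := exists_notMem h5 {o, f y o} (by
    rw [Finset.card_insert_of_notMem (by simpa using hy.symm), Finset.card_singleton]; norm_num)
  have heo : e ≠ o := fun h => he (by simp [h])
  have hea : e ≠ f y o := fun h => he (by simp [h])
  obtain ⟨t, ht, hte⟩ := hTt (f y o) e hy heo
  have hte' : f t e = f y o := by rw [← hte, hT2 t ht]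
  have hyo : f y⁻¹ o ≠ o := by
    intro h
    have := congrArg (f y) h
    rw [hinv] at this
    exact hy this.symm
  have hye : f y⁻¹ e ≠ o := by
    intro h
    have := congrArg (f y) h
    rw [hinv] at this
    exact hea this
  obtain ⟨t₂, ht₂, hte₂⟩ := hTt _ _ hyo hye
  have ht₂n : f t₂ ≠ 1 := by
    intro h
    rw [h] at hte₂
    have := congrArg (f y) hte₂
    rw [Equiv.Perm.one_apply, hinv, hinv] at this
    exact heo this.symm
  -- `w = y t₂ y⁻¹` fixes `a = f y o`, swaps `o` and `e`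
  have hw1 : f (y * t₂ * y⁻¹) (f y o) = f y o := by rw [hap, hap, hinv', hTo t₂ ht₂]
  have hw2 : f (y * t₂ * y⁻¹) o = e := by rw [hap, hap, hte₂, hinv]
  have hww : ∀ a, f (y * t₂ * y⁻¹) (f (y * t₂ * y⁻¹) a) = a := by
    intro a
    rw [hap, hap, hap, hap, hinv', hT2 t₂ ht₂, hinv]
  have hw3 : f (y * t₂ * y⁻¹) e = o := by rw [← hw2, hww]
  have hwf : ∀ a, a ≠ f y o → f (y * t₂ * y⁻¹) a ≠ a := by
    intro a ha h2
    refine hTf t₂ ht₂ ht₂n (f y⁻¹ a) ?_ ?_
    · intro h3
      have := congrArg (f y) h3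
      rw [hinv] at this
      exact ha this
    · rw [hap, hap] at h2
      have := congrArg (f y⁻¹) h2
      rwa [hinv'] at this
  obtain ⟨c, hc⟩ := exists_notMem h5 {o, f y o, e} (by
    refine (Finset.card_le_three).trans (by norm_num))
  have hco : c ≠ o := fun h => hc (by simp [h])
  have hca : c ≠ f y o := fun h => hc (by simp [h])
  have hce : c ≠ e := fun h => hc (by simp [h])
  set w := y * t₂ * y⁻¹ with hw
  have htn : f t ≠ 1 := by
    intro h
    rw [h] at hte
    exact hea hte.symm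
  -- `d = w c` is the fifth point
  have hdo : f w c ≠ o := by
    intro h
    have := congrArg (f w) h
    rw [hww, hw2] at this
    exact hce this
  have hde : f w c ≠ e := by
    intro h
    have := congrArg (f w) h
    rw [hww, hw3] at this
    exact hco this
  have hda : f w c ≠ f y o := by
    intro h
    have := congrArg (f w) h
    rw [hww, hw1] at this
    exact hca this
  have hdc : f w c ≠ c := hwf c hca
  have htc : f t c = f w c := by
    rcases five_cases h5 hy.symm heo.symm hco.symm hdo.symm hea.symm hca.symm hda.symm hce.symm hde.symm hdc.symm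
      (f t c) with h | h | h | h | h
    · have := congrArg (f t) h
      rw [hT2 t ht, hTo t ht] at this
      exact absurd this hco
    · have := congrArg (f t) h
      rw [hT2 t ht, hte] at this
      exact absurd this hce
    · have := congrArg (f t) h
      rw [hT2 t ht, hte'] at this
      exact absurd this hca
    · exact absurd h (hTf t ht htn c hco)
    · exact h
  have hhc : f (t * w) c = c := by rw [hap, ← htc, hT2 t ht]
  have hho : f (t * w) o = f y o := by rw [hap, hw2, hte']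
  have hha : f (t * w) (f y o) = e := by rw [hap, hw1, hte]
  have hhe : f (t * w) e = o := by rw [hap, hw3, hTo t ht]
  -- transitivity
  obtain ⟨t₃, ht₃, hte₃⟩ := hTt c (f y⁻¹ o) hco hyo
  have hmc : f (y * t₃) c = o := by rw [hap, hte₃, hinv]
  have hmo : f (y * t₃)⁻¹ o = c := by rw [← hmc, hinv']
  have hS' : (y * t₃) * (t * w) * (y * t₃)⁻¹ ∈ S := by
    rw [hS, hap, hap, hmo, hhc, hmc]
  obtain ⟨n, hn⟩ := h2el _ hS'
  have hn' : f (t * w) ^ 2 ^ n = 1 := by
    rw [map_mul, map_mul, map_inv] at hn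
    have h1 : (f (y * t₃) * f (t * w) * (f (y * t₃))⁻¹) ^ 2 ^ n = f (y * t₃) * f (t * w) ^ 2 ^ n * (f (y * t₃))⁻¹ := by
      rw [conj_pow]
    rw [h1] at hn
    exact conj_eq_one_iff.1 hn
  have h3 : ∀ k : ℕ, (f (t * w) ^ (3 * k)) o = o := by
    intro k
    induction k with
    | zero => simp
    | succ k ih =>
      have : (f (t * w) ^ (3 * (k + 1))) o = (f (t * w)) ((f (t * w)) ((f (t * w)) ((f (t * w) ^ (3 * k)) o))) := by
        rw [show 3 * (k + 1) = 1 + (1 + (1 + 3 * k)) from by ring, pow_add, pow_add, pow_add, pow_one]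
        rfl
      rw [this, ih, hho, hha, hhe]
  have h4 : 2 ^ n % 3 = 1 ∨ 2 ^ n % 3 = 2 := by
    have : ¬ 3 ∣ 2 ^ n := by
      intro h
      have := (Nat.prime_three.dvd_of_dvd_pow h)
      norm_num at this
    omega
  have h5'' : (f (t * w) ^ 2 ^ n) o = o := by rw [hn']; rfl
  rcases h4 with h4 | h4
  · have h6 : 2 ^ n = 1 + 3 * (2 ^ n / 3) := by omega
    rw [h6, pow_add, Equiv.Perm.mul_apply, h3, pow_one, hho] at h5''
    exact hy h5''
  · have h6 : 2 ^ n = 1 + (1 + 3 * (2 ^ n / 3)) := by omega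
    rw [h6, pow_add, pow_add, Equiv.Perm.mul_apply, Equiv.Perm.mul_apply, h3, pow_one, hho, hha] at h5''
    exact heo h5''

end Five

end Cfsg.Agent.H302.St
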